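import Cfsg.Agent.Lib.Char.SuzukiZassenhaus.Structure
import Mathlib.GroupTheory.Perm.Cycle.Type

/-!
# The exponent of a Suzuki kernel of square order is odd

Pushing a kernel element through an involution interchanging the two points, followed by inversion,
permutes the orbits of the two-point stabilizer in cycles of length three, with at most the orbit of
involutions fixed.
-/

set_option autoImplicit false
set_option linter.unusedSectionVars false
set_option linter.style.haveILetI false

namespace CfsgLib.Char.SuzZ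

open Cfsg MulAction CfsgLib.Char CfsgLib.Char.ZassenhausOdd CfsgLib.Char.FeitZ

variable {G Ω : Type*} [Group G] [Finite G] [MulAction G Ω] [Fintype Ω] {a b : Ω} {H : Subgroup G} {n : ℕ}

namespace TwoKernel

variable [IsSimpleGroup G]

theorem exists_unique_move (S : TwoKernel G a b H n) {c : Ω} (hc : c ≠ a) : ∃! g : H, (g : G) • b = c := by
  classical
  have hne : ∀ u : H, (u : G) • b ≠ a := fun u e => S.pt.ne.symm (smul_left_cancel _
    (e.trans (S.pt.le u.2 : (u : G) • a = a).symm))
  have hb : Function.Bijective (fun u : H => (⟨(u : G) • b, hne u⟩ : {x : Ω // x ≠ a})) := by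
    refine (Nat.bijective_iff_injective_and_card _).2 ⟨fun u v e => ?_, ?_⟩
    · by_contra huv
      have e' : (u : G) • b = (v : G) • b := congrArg Subtype.val e
      refine S.pt.ne (S.pt.fix (v⁻¹ * u : H) (v⁻¹ * u : H).2 (fun h => huv ?_) b ?_).symm
      · exact Subtype.ext (inv_mul_eq_one.1 h).symm
      · show ((v : G)⁻¹ * u) • b = b
        rw [mul_smul, e', inv_smul_smul]
    · rw [Nat.card_eq_fintype_card (α := {x : Ω // x ≠ a}), Fintype.card_subtype_compl, Fintype.card_subtype_eq]
      have := S.pt.card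
      omega
  obtain ⟨u, hu⟩ := hb.2 ⟨c, hc⟩
  exact ⟨u, congrArg Subtype.val hu, fun v hv => hb.1 (Subtype.ext (hv.trans (congrArg Subtype.val hu).symm))⟩

/-- An element of the kernel of order four is not inverted by the push through a swap. -/
theorem no_four (S : TwoKernel G a b H n) {t : G} (hta : t • a = b) (ht : t * t = 1) {u : G} (hu : u ∈ H)
    (hu2 : u * u ≠ 1) (hz : (u * u) * (u * u) = 1) (hrel : t * u * t = u⁻¹ * t * u⁻¹) : False := by
  set z := u * u with hzd
  have hzH : z ∈ H := mul_mem hu hu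
  set w := t * z * t with hw
  have e1 : w = u⁻¹ * w * u⁻¹ := by
    calc w = (t * u * t) * (t * u * t) := by
          rw [hw, hzd]
          calc t * (u * u) * t = t * u * 1 * u * t := by group
            _ = _ := by rw [← ht]; group
      _ = u⁻¹ * (t * z⁻¹ * t) * u⁻¹ := by rw [hrel, hzd]; group
      _ = u⁻¹ * w * u⁻¹ := by rw [hw, inv_eq_of_mul_eq_one_right hz]
  have hw2 : w * w = 1 := by
    calc w * w = t * z * (t * t) * z * t := by rw [hw]; group
      _ = _ := by rw [ht, mul_one, mul_assoc t z z, hz, mul_one, ht]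
  have e2 : u * w * u = w := by
    nth_rewrite 1 [e1]
    group
  have e3 : w * u * w = u⁻¹ := by
    rw [eq_inv_iff_mul_eq_one]
    calc w * u * w * u = w * (u * w * u) := by group
      _ = 1 := by rw [e2, hw2]
  have e4 : w * z = z * w := by
    have h1 : w * z * w = z := by
      calc w * z * w = (w * u * 1) * u * w := by rw [hzd]; group
        _ = (w * u * w) * (w * u * w) := by rw [← hw2]; group
        _ = u⁻¹ * u⁻¹ := by rw [e3]
        _ = z := by rw [← mul_inv_rev, ← hzd, inv_eq_of_mul_eq_one_right hz]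
    calc w * z = w * z * (w * w) := by rw [hw2, mul_one]
      _ = (w * z * w) * w := by group
      _ = z * w := by rw [h1]
  have hza : z • a = a := S.pt.le hzH
  have hwa : w • a = a := S.pt.fix z hzH hu2 _ (by rw [← mul_smul, ← e4, mul_smul, hza])
  have h5 : z • (t • a) = t • a := by
    rw [hw, mul_smul, mul_smul] at hwa
    nth_rewrite 2 [← hwa]
    rw [← mul_smul t t, ht, one_smul]
  exact S.pt.ne (hta ▸ S.pt.fix z hzH hu2 _ h5).symm

/-- For a kernel of square order the exponent is odd. -/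
theorem odd_exponent (S : TwoKernel G a b H n) (hc : Nat.card H = (2 ^ n) ^ 2) : Odd n := by
  classical
  haveI : Fact (Nat.Prime 3) := ⟨Nat.prime_three⟩
  have P := S.pt
  obtain ⟨t, hta, htb⟩ := exists_map_pair P.zas P.ne P.ne.symm
  obtain ⟨hinv, hto⟩ := swap_inverts P.zas P.ne P.odd hta htb
  have ht : t * t = 1 := by rw [← pow_two, ← hto, pow_orderOf_eq_one]
  have htinv : t⁻¹ = t := inv_eq_of_mul_eq_one_right ht
  have hts : ∀ s ∈ pairStab G a b, t * s = s⁻¹ * t := fun s hs => by
    calc t * s = (t⁻¹ * s * t) * t⁻¹ := by rw [htinv, mul_assoc _ t t, ht, mul_one]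
      _ = _ := by rw [hinv s hs, htinv]
  haveI : IsCyclic (pairStab G a b) := (CfsgLib.Perm.ZSimple.cyclic_inverted P.zas P.ne).1
  letI : CommGroup (pairStab G a b) := IsCyclic.commGroup
  have hua : ∀ u : H, (u : G) • a = a := fun u => P.le u.2
  let X := {u : H // u ≠ 1}
  letI : MulAction (pairStab G a b) X :=
    { smul := fun s u => ⟨pairConj P s u.1, (pairConj P s).injective.ne_iff' (map_one _) |>.2 u.2⟩
      one_smul := fun u => Subtype.ext (DFunLike.congr_fun (map_one (pairConj P)) u.1)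
      mul_smul := fun s s' u => Subtype.ext (DFunLike.congr_fun (map_mul (pairConj P) s s') u.1) }
  have hsmul : ∀ (s : pairStab G a b) (u : X), (((s • u : X) : H) : G) = (s : G) * ((u : H) : G) * (s : G)⁻¹ :=
    fun _ _ => rfl
  have hconjb : ∀ (s : pairStab G a b) (u : H), ((s : G) * u * (s : G)⁻¹) • b = (s : G) • (u : G) • b := by
    intro s u
    rw [mul_smul, mul_smul, inv_smul_eq_iff.2 (Subgroup.mem_inf.1 s.2).2.symm]
  -- the push through the swap
  have hmove : ∀ u : X, t • ((u : H) : G) • b ≠ a := by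
    intro u h
    rw [← inv_inj] at htinv
    have h1 : ((u : H) : G) • b = b := by
      have h' := congrArg (t • ·) h
      simp only [← mul_smul t t, ht, one_smul] at h'
      rw [h', hta]
    exact P.ne (P.fix _ u.1.2 (fun h0 => u.2 (Subtype.ext h0)) b h1).symm
  choose A hA hAu using fun u : X => (S.exists_unique_move (hmove u))
  have hA1 : ∀ u, A u ≠ 1 := by
    intro u h
    have h' := hA u
    rw [h, Subgroup.coe_one, one_smul] at h'
    have h1 : ((u : H) : G) • b = a := by
      rw [← one_smul G (((u : H) : G) • b), ← ht, mul_smul, ← h', htb]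
    exact P.ne (smul_left_cancel _ (h1.trans (hua u.1).symm)).symm
  let T : X → X := fun u => ⟨(A u)⁻¹, inv_ne_one.2 (hA1 u)⟩
  have hcomm : ∀ (s : pairStab G a b) (u : X), (A (s • u) : G) = (s : G)⁻¹ * (A u : G) * (s : G) := by
    intro s u
    have h : (((s⁻¹ • ⟨A u, hA1 u⟩ : X) : H) : G) • b = t • (((s • u : X) : H) : G) • b := by
      rw [hsmul, hsmul, hconjb, hconjb, ← mul_smul t, hts _ s.2, mul_smul, ← hA u]
      rfl
    rw [← hAu (s • u) _ h, hsmul]
    simp
  -- pushing three times
  have hthree : ∀ u : X, ∃ k : pairStab G a b,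
      T (T (T u)) = k • u ∧ ((A (T u) : H) : G) * k⁻¹ = t * (A u : G)⁻¹ * t * (u : H) * t := by
    intro u
    set g : G := (A u : G) with hg
    set m : G := t * g⁻¹ * t * (u : H) * t with hm
    set v : G := (A (T u) : G) with hv
    have hgb : g • b = t • ((u : H) : G) • b := hA u
    have hma : m • a = a := by
      rw [hm, mul_smul, mul_smul, mul_smul, mul_smul, hta, ← hgb, inv_smul_smul, htb]
    have hmb : m • b = v • b := by
      rw [hm, mul_smul, mul_smul, mul_smul, mul_smul, htb, hua, hta, hA (T u)]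
      rfl
    have hk : m⁻¹ * v ∈ pairStab G a b := by
      refine Subgroup.mem_inf.2 ⟨mem_stabilizer_iff.2 ?_, mem_stabilizer_iff.2 ?_⟩
      · rw [mul_smul, hua, inv_smul_eq_iff, hma]
      · rw [mul_smul, inv_smul_eq_iff, hmb]
    refine ⟨⟨_, hk⟩, ?_, by show v * (m⁻¹ * v)⁻¹ = m; group⟩
    set k : pairStab G a b := ⟨_, hk⟩ with hkd
    refine Subtype.ext ?_
    show (A (T (T u)))⁻¹ = pairConj P k u.1
    rw [inv_eq_iff_eq_inv, ← map_inv]
    refine (hAu (T (T u)) (pairConj P k u.1⁻¹) ?_).symm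
    show (((k : G) * ((u : H) : G)⁻¹ * (k : G)⁻¹)) • b = t • ((A (T u) : H)⁻¹ : H).1 • b
    rw [show ((u : H) : G)⁻¹ = ((u.1⁻¹ : H) : G) from rfl, hconjb]
    have e1 : ((A (T u) : H)⁻¹ : H).1 = (k : G)⁻¹ * m⁻¹ := by
      show v⁻¹ = (m⁻¹ * v)⁻¹ * m⁻¹
      group
    rw [e1, mul_smul (k : G)⁻¹ m⁻¹ b]
    have e2 : m⁻¹ • b = t • ((u : H) : G)⁻¹ • b := by
      calc m⁻¹ • b = (t * ((u : H) : G)⁻¹ * t * g * t) • b := by
            congr 1
            rw [hm]
            simp only [mul_inv_rev, inv_inv, htinv, mul_assoc]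
        _ = _ := by rw [mul_smul, mul_smul, mul_smul, mul_smul, htb, show g • a = a from hua (A u), hta]
    rw [e2, ← mul_smul t, hts _ (Subgroup.inv_mem _ k.2), inv_inv, mul_smul (k : G) t, ← mul_smul t t, ht, one_smul]
    rfl
  -- the orbit space
  let Q := MulAction.orbitRel.Quotient (pairStab G a b) X
  let Tq : Q → Q := Quotient.map' T fun u v huv => by
    obtain ⟨s, rfl⟩ := huv
    refine ⟨s⁻¹, Subtype.ext (Subtype.ext ?_)⟩
    rw [hsmul]
    show ((s⁻¹ : pairStab G a b) : G) * ((A v : H) : G)⁻¹ * ((s⁻¹ : pairStab G a b) : G)⁻¹ = ((A (s • v) : H) : G)⁻¹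
    rw [hcomm, Subgroup.coe_inv]
    group
  have hTq3 : ∀ q, Tq (Tq (Tq q)) = q := fun q => by
    induction q using Quotient.inductionOn' with | _ u => ?_
    obtain ⟨k, hk, -⟩ := hthree u
    exact Quotient.sound' ⟨k, hk.symm⟩
  haveI : Fintype Q := Fintype.ofFinite Q
  let σ : Equiv.Perm Q := Equiv.ofBijective Tq
    ⟨fun q q' h => by rw [← hTq3 q, ← hTq3 q', h], fun q => ⟨Tq (Tq q), hTq3 q⟩⟩
  have hfix : ∀ q, σ q = q → ∃ u : X, (u : H) * (u : H) = 1 ∧ q = Quotient.mk'' u := by
    intro q hq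
    induction q using Quotient.inductionOn' with | _ u => ?_
    obtain ⟨s, hs⟩ := Quotient.exact' (hq : Quotient.mk'' (T u) = Quotient.mk'' u)
    have hs' : s • u = T u := hs
    obtain ⟨r, hr⟩ : ∃ r : pairStab G a b, r * r = s := by
      obtain ⟨k, hk⟩ := exists_pow_eq_self_of_coprime (x := s) (n := 2)
        ((Nat.prime_two.coprime_iff_not_dvd).2 fun h => Nat.not_even_iff_odd.2 P.odd
          (even_iff_two_dvd.2 (h.trans (orderOf_dvd_natCard s))))
      exact ⟨s ^ k, by rw [← pow_add, ← two_mul, pow_mul, hk]⟩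
    refine ⟨r • u, ?_, Quotient.sound' ⟨r⁻¹, inv_smul_smul r u⟩⟩
    set u' : X := r • u with hu'
    have hTu' : T u' = u' := by
      refine Subtype.ext (Subtype.ext ?_)
      show ((A u' : H) : G)⁻¹ = _
      rw [hu', hcomm, hsmul]
      have e1 : (s : G) * ((u : H) : G) * (s : G)⁻¹ = ((A u : H) : G)⁻¹ := by
        rw [← hsmul, hs']; rfl
      rw [← hr, Subgroup.coe_mul] at e1
      calc ((r : G)⁻¹ * ((A u : H) : G) * (r : G))⁻¹ = (r : G)⁻¹ * ((A u : H) : G)⁻¹ * (r : G) := by group
        _ = _ := by rw [← e1]; group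
    obtain ⟨k, hk1, hk2⟩ := hthree u'
    rw [hTu', hTu', hTu'] at hk1
    have hk0 : (k : G) = 1 := by
      by_contra hne
      exact u'.2 (Subtype.ext ((isFpfOn_kernel P.ne P.zas P.le P.fix).eq_one k.2 hne u'.1.2 (by
        rw [← hsmul, ← hk1])))
    have hAu' : ((A u' : H) : G) = ((u' : H) : G)⁻¹ := by
      rw [← inv_inj, inv_inv]
      exact congrArg (fun z : X => ((z : H) : G)) hTu'
    rw [hTu', hAu', Subgroup.coe_inv, hk0, inv_one, mul_one, inv_inv] at hk2
    by_contra hne
    refine S.no_four hta ht u'.1.2 (fun h => hne (Subtype.ext h)) ?_ ?_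
    · have h1 := S.sq u'.1
      exact congrArg Subtype.val ((S.invol (u'.1 * u'.1)).2 ⟨h1, hne⟩).2
    · set x : G := ((u' : H) : G) with hx
      calc t * x * t = (t * x * t * x * t) * t⁻¹ * x⁻¹ := by group
        _ = _ := by rw [← hk2, htinv]
  have hle : σ.supportᶜ.card ≤ 1 := by
    refine Finset.card_le_one.2 fun q hq q' hq' => ?_
    rw [Finset.mem_compl, Equiv.Perm.notMem_support] at hq hq'
    obtain ⟨u, hu, rfl⟩ := hfix q hq
    obtain ⟨v, hv, rfl⟩ := hfix q' hq'
    obtain ⟨s, hs, hsv⟩ := S.trans v.1 u.1 v.2 hv u.2 hu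
    exact Quotient.sound' ⟨⟨s, hs⟩, Subtype.ext (Subtype.ext hsv)⟩
  have hmod := Equiv.Perm.card_compl_support_modEq (p := 3) (n := 1) (σ := σ)
    (by
      ext q
      rw [pow_one, pow_succ, pow_two, Equiv.Perm.mul_apply, Equiv.Perm.mul_apply, Equiv.Perm.one_apply]
      exact hTq3 q)
  -- the number of orbits
  have hQ : Fintype.card Q * Nat.card (pairStab G a b) = Nat.card H - 1 := by
    have h1 : Nat.card X = Nat.card H - 1 := by
      haveI := Fintype.ofFinite H
      rw [Nat.card_eq_fintype_card, Fintype.card_subtype_compl, Fintype.card_subtype_eq, ← Nat.card_eq_fintype_card]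
    rw [← h1, Nat.card_congr (MulAction.selfEquivSigmaOrbits (pairStab G a b) X), Nat.card_sigma,
      Finset.sum_congr rfl (g := fun _ => Nat.card (pairStab G a b)) fun q _ => ?_,
      Finset.sum_const, Finset.card_univ, smul_eq_mul]
    rw [Nat.card_congr (MulAction.orbitEquivQuotientStabilizer (pairStab G a b) q.out), ← Subgroup.index_eq_card,
      show stabilizer (pairStab G a b) q.out = ⊥ from ?_, Subgroup.index_bot]
    refine (Subgroup.eq_bot_iff_forall _).2 fun s hs => ?_
    by_contra hne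
    exact q.out.2 (Subtype.ext ((isFpfOn_kernel P.ne P.zas P.le P.fix).eq_one s.2
      (fun h => hne (Subtype.ext h)) q.out.1.2 (congrArg (fun z : X => ((z : H) : G)) hs)))
  have hcard : Fintype.card Q = 2 ^ n + 1 := by
    rw [hc, ← S.card_pair] at hQ
    refine Nat.eq_of_mul_eq_mul_right (Nat.card_pos (α := pairStab G a b)) (hQ.trans ?_)
    rw [← S.card_pair]
    refine Nat.sub_eq_of_eq_add ?_
    ring
  rw [hcard] at hmod
  by_contra hev
  obtain ⟨k, hk⟩ := Nat.not_odd_iff_even.1 hev
  rw [hk, ← two_mul, pow_mul] at hmod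
  have h4 : (4 : ℕ) ^ k % 3 = 1 := by rw [Nat.pow_mod]; simp
  rw [show ((2 : ℕ) ^ 2) = 4 from rfl, Nat.ModEq, Nat.add_mod, h4] at hmod
  omega

end TwoKernel

end CfsgLib.Char.SuzZ
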