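import Cfsg.Agent.Lib.Char.SuzukiZassenhaus.Cube
import Cfsg.Agent.Lib.Char.SuzukiZassenhaus.Parity
import Cfsg.Agent.Lib.Perm.Dickson.Bridge
import Cfsg.Agent.S0727
import Cfsg.Agent.S0731

/-!
# Simple Zassenhaus groups with two-point stabilizer of odd order
-/

set_option autoImplicit false
set_option linter.unusedSectionVars false
set_option linter.style.haveILetI false

namespace CfsgLib.Char.SuzZ

open Cfsg MulAction CfsgLib.Char CfsgLib.Char.ZassenhausOdd CfsgLib.Char.FeitZ

variable {G Ω : Type*} [Group G] [Finite G] [MulAction G Ω] [Fintype Ω] {a b : Ω} {H : Subgroup G}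

/-- The kernel has the square of the number of its central elements as its order. -/
theorem exists_square_kernel (P : Pt G a b H) [IsSimpleGroup G] (h2 : IsPGroup 2 H)
    (hna : ∃ x y : H, x * y ≠ y * x) : ∃ n, TwoKernel G a b H n ∧ Odd n ∧ Nat.card H = (2 ^ n) ^ 2 := by
  obtain ⟨n, S⟩ := exists_twoKernel P h2 hna
  rcases S.card with hc | hc
  · exact ⟨n, S, S.odd_exponent hc, hc⟩
  · haveI : Fintype G := Fintype.ofFinite G
    exact (S.not_cube hc).elim

/-- A simple Zassenhaus group with non-abelian kernel of two-power order has the order of a Suzuki group. -/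
theorem isSuzuki_of_pt (P : Pt G a b H) [IsSimpleGroup G] (h2 : IsPGroup 2 H)
    (hna : ∃ x y : H, x * y ≠ y * x) : Cfsg.IsSuzuki G := by
  classical
  obtain ⟨n, S, hn, hc⟩ := exists_square_kernel P h2 hna
  obtain ⟨m, hm⟩ := hn
  refine ⟨inferInstance, m, by have := S.two; omega, ?_⟩
  have he := S.card_pair
  rw [card_group P.zas P.ne, ← P.card, Nat.add_sub_cancel, hc, ← hm,
    show Nat.card (pairStab G a b) = 2 ^ n - 1 by omega]
  ring

/-- In characteristic two the projective general linear group is the special one. -/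
theorem nonempty_psl_equiv {F : Type*} [Field F] [Fintype F] {f : ℕ} (hf : 1 ≤ f) (hF : Fintype.card F = 2 ^ f) :
    Nonempty (Matrix.ProjGenLinGroup (Fin 2) F ≃* Matrix.ProjectiveSpecialLinearGroup (Fin 2) F) := by
  haveI := CfsgLib.Perm.Dickson.finite_G2 (F := F)
  have h := CfsgLib.Perm.Dickson.card_psl F
  have hg : Nat.gcd 2 (Nat.card F - 1) = 1 := by
    refine Nat.prime_two.coprime_iff_not_dvd.2 fun hd => ?_
    rw [Nat.card_eq_fintype_card, hF] at hd
    have h2 : 2 ∣ 2 ^ f := dvd_pow_self 2 (by omega)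
    have := Nat.one_le_two_pow (n := f)
    omega
  rw [hg, one_mul] at h
  have htop : CfsgLib.Perm.Dickson.psl F = ⊤ := Subgroup.eq_top_of_card_eq _ (by
    rw [h, CfsgLib.Perm.Dickson.card_G2]; ring)
  exact ⟨(((CfsgLib.Perm.Dickson.pslEquiv F).trans (MulEquiv.subgroupCongr htop)).trans Subgroup.topEquiv).symm⟩

/-- An abelian kernel gives the projective special linear group. -/
theorem psl_of_comm (P : Pt G a b H) (hn : (H.subgroupOf (stabilizer G a)).Normal)
    (hreg : ∀ y z : Ω, y ≠ a → z ≠ a → ∃! u : H, (u : G) • y = z) (hab : IsMulCommutative H) {p f : ℕ}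
    (hp : p.Prime) (hΩ : Fintype.card Ω = p ^ f + 1) :
    ∃ (F : Type) (_ : Field F) (_ : Fintype F),
      Nonempty (G ≃* Matrix.ProjectiveSpecialLinearGroup (Fin 2) F) := by
  classical
  rcases Cfsg.Agent.S0731.result P.zas a H P.le hn hab hreg with ⟨h3, h3s⟩ | ⟨K, i1, i2, -, hiso⟩
  swap
  · exact ⟨K, i1, i2, hiso⟩
  haveI := P.zas.1
  haveI := P.zas.2.1
  have h3le := zassenhaus_three_le P.zas
  have he : Nat.card (pairStab G a b) = Fintype.card Ω - 2 := by
    obtain ⟨c, hc⟩ : (Finset.univ \ {a, b} : Finset Ω).Nonempty := Finset.card_pos.1 (by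
      rw [Finset.card_sdiff_of_subset (Finset.subset_univ _), Finset.card_pair P.ne, Finset.card_univ]; omega)
    simp only [Finset.mem_sdiff, Finset.mem_univ, true_and, Finset.mem_insert, Finset.mem_singleton, not_or] at hc
    have hmem : ∀ g : pairStab G a b, (g : G) • c ≠ a ∧ (g : G) • c ≠ b := fun g =>
      ⟨fun e => hc.1 (smul_left_cancel _ (e.trans (Subgroup.mem_inf.1 g.2).1.symm)),
        fun e => hc.2 (smul_left_cancel _ (e.trans (Subgroup.mem_inf.1 g.2).2.symm))⟩
    have hb : Function.Bijective (fun g : pairStab G a b => (⟨(g : G) • c, hmem g⟩ : {z : Ω // z ≠ a ∧ z ≠ b})) := by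
      refine ⟨fun g g' e => ?_, fun z => ?_⟩
      · have e' : (g : G) • c = (g' : G) • c := congrArg Subtype.val e
        refine Subtype.ext (inv_mul_eq_one.1 (P.zas.2.2.1 ((g' : G)⁻¹ * g) a b c P.ne (Ne.symm hc.2) (Ne.symm hc.1)
          ?_ ?_ ?_)).symm
        · exact (mul_mem (inv_mem g'.2) g.2 : (g' : G)⁻¹ * g ∈ pairStab G a b).1
        · exact (mul_mem (inv_mem g'.2) g.2 : (g' : G)⁻¹ * g ∈ pairStab G a b).2
        · rw [mul_smul, e', inv_smul_smul]
      · haveI : IsPretransitive G (Fin 3 ↪ Ω) := h3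
        let x : Fin 3 ↪ Ω := ⟨![a, b, c], CfsgLib.Perm.Groups.injective_three P.ne (Ne.symm hc.1) (Ne.symm hc.2)⟩
        let y : Fin 3 ↪ Ω := ⟨![a, b, z.1], CfsgLib.Perm.Groups.injective_three P.ne (Ne.symm z.2.1) (Ne.symm z.2.2)⟩
        obtain ⟨g, hg⟩ := exists_smul_eq G x y
        exact ⟨⟨g, Subgroup.mem_inf.2 ⟨congrArg (fun v : Fin 3 ↪ Ω => v 0) hg, congrArg (fun v : Fin 3 ↪ Ω => v 1) hg⟩⟩,
          Subtype.ext (congrArg (fun v : Fin 3 ↪ Ω => v 2) hg)⟩
    rw [Nat.card_eq_of_bijective _ hb, Nat.card_eq_fintype_card, Fintype.card_subtype,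
      show Finset.univ.filter (fun z : Ω => z ≠ a ∧ z ≠ b) = Finset.univ \ {a, b} by ext z; simp,
      Finset.card_sdiff_of_subset (Finset.subset_univ _), Finset.card_pair P.ne, Finset.card_univ]
  have hf1 : 1 ≤ f := by
    rcases Nat.eq_zero_or_pos f with rfl | h
    · rw [pow_zero] at hΩ; omega
    · exact h
  obtain rfl : p = 2 := by
    by_contra hp2
    obtain ⟨k, hk⟩ := P.odd
    obtain ⟨l, hl⟩ := (hp.odd_of_ne_two hp2).pow (n := f)
    omega
  set R := (toPermHom G Ω).range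
  let φ : G ≃* R := MonoidHom.ofInjective toPerm_injective
  have hφ : ∀ (g : G) (ω : Ω), φ g • ω = g • ω := fun _ _ => rfl
  have h3R : IsMultiplyPretransitive R Ω 3 := by
    haveI : IsPretransitive G (Fin 3 ↪ Ω) := h3
    exact ⟨fun x y => (exists_smul_eq G x y).elim fun g hg => ⟨φ g, by
      rw [← hg]; ext i; exact hφ g (x i)⟩⟩
  have hsR : ∀ x : Fin 3 ↪ Ω, stabilizer R x = ⊥ := fun x => (Subgroup.eq_bot_iff_forall _).2 fun r hr => by
    obtain ⟨g, rfl⟩ := φ.surjective r
    have hg : g ∈ stabilizer G x := by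
      rw [mem_stabilizer_iff] at hr ⊢
      ext i
      exact (hφ g (x i)).symm.trans (congrArg (fun v : Fin 3 ↪ Ω => v i) hr)
    rw [h3s x, Subgroup.mem_bot] at hg
    rw [hg, map_one]
  obtain ⟨F, i1, i2, hF, ⟨e⟩⟩ := Cfsg.Agent.S0727.result hf1 hΩ R h3R hsR
  obtain ⟨e2⟩ := nonempty_psl_equiv hf1 hF
  exact ⟨F, i1, i2, ⟨(φ.trans e).trans e2⟩⟩

end CfsgLib.Char.SuzZ
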