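import Mathlib

/-!
# No kernel of order the cube of the number of central elements: the arithmetic
-/

set_option autoImplicit false

namespace CfsgLib.Char.SuzZ

theorem eq_neg_two_mul {n : ℕ} {q b x : ℤ} (hq : q = 2 ^ n) (hn : 2 ≤ n) (hb : 1 ≤ b) (hb2 : 2 * b ^ 2 < q)
    (hx : x ^ 2 ≤ q) (hN : b * (q ^ 2 + q + 1) + x * q ∣ q ^ 3 * (q ^ 3 + 1)) : x = -2 * b := by
  have hq4 : 4 ≤ q := by
    rw [hq]
    calc (4 : ℤ) = 2 ^ 2 := by norm_num
      _ ≤ 2 ^ n := pow_le_pow_right₀ (by norm_num) hn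
  set N := b * (q ^ 2 + q + 1) + x * q with hNd
  by_cases hxb : x = b
  · exfalso
    subst hxb
    have e1 : N = x * (q + 1) ^ 2 := by rw [hNd]; ring
    have h1 : (q + 1) ^ 2 ∣ (q + 1) * (q ^ 3 * (q ^ 2 - q + 1)) := by
      refine dvd_trans (Dvd.intro_left x e1.symm) (hN.trans (dvd_of_eq ?_))
      ring
    rw [pow_two] at h1
    have h2 : q + 1 ∣ q ^ 3 * (q ^ 2 - q + 1) := (mul_dvd_mul_iff_left (by linarith)).1 h1
    have h3 : q + 1 ∣ 3 := by
      have : (3 : ℤ) = (q + 1) * ((q ^ 2 - q + 1) * (q ^ 2 - q + 1) - (q - 2)) -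
          q ^ 3 * (q ^ 2 - q + 1) := by ring
      rw [this]
      exact (dvd_mul_right _ _).sub h2
    have := Int.le_of_dvd (by norm_num) h3
    linarith
  by_contra hne
  obtain ⟨k1, k2, hk1, hk2, hk⟩ := exists_dvd_and_dvd_of_dvd_mul hN
  rw [show q ^ 3 + 1 = (q + 1) * (q ^ 2 - q + 1) by ring] at hk2
  obtain ⟨k3, k4, hk3, hk4, rfl⟩ := exists_dvd_and_dvd_of_dvd_mul hk2
  have h1 : k1 ∣ b := by
    have hnat : k1.natAbs ∣ 2 ^ (n * 3) := by
      rw [pow_mul]
      have := Int.natAbs_dvd_natAbs.2 hk1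
      rwa [hq, Int.natAbs_pow, Int.natAbs_pow] at this
    obtain ⟨j, -, hj⟩ := (Nat.dvd_prime_pow Nat.prime_two).1 hnat
    have hk1N : (2 : ℤ) ^ j ∣ N := by
      have : k1 ∣ N := ⟨_, hk⟩
      rw [← Int.natAbs_dvd, hj] at this
      exact_mod_cast this
    have hbN : ∀ c : ℤ, c ∣ q → c ∣ N → c ∣ b := fun c hcq hcN => by
      have : b = N - q * (b * (q + 1) + x) := by rw [hNd]; ring
      rw [this]
      exact hcN.sub (hcq.mul_right _)
    rw [← Int.natAbs_dvd, hj]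
    push_cast
    rcases le_or_gt j n with hjn | hjn
    · exact hbN _ (hq ▸ pow_dvd_pow 2 hjn) hk1N
    · exfalso
      have hqb : q ∣ b := hbN q dvd_rfl (hq ▸ (pow_dvd_pow 2 hjn.le).trans hk1N)
      have := Int.le_of_dvd (by linarith) hqb
      nlinarith
  have h3 : k3 ∣ b - x := by
    have e : b - x = N - (q + 1) * (b * q + x) := by rw [hNd]; ring
    rw [e]
    exact Dvd.dvd.sub ⟨k1 * k4, by rw [hk]; ring⟩ (hk3.mul_right _)
  have h4 : k4 ∣ x + 2 * b := by
    have e : x + 2 * b = (q ^ 2 - q + 1) * (x + 2 * b) - (N - (q ^ 2 - q + 1) * b) * (q - 1) := by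
      rw [hNd]; ring
    rw [e]
    exact (hk4.mul_right _).sub (Dvd.dvd.mul_right (Dvd.dvd.sub ⟨k1 * k3, by rw [hk]; ring⟩ (hk4.mul_right _)) _)
  have hdvd : N ∣ b * ((b - x) * (x + 2 * b)) := hk ▸ mul_dvd_mul h1 (mul_dvd_mul h3 h4)
  have hne0 : b * ((b - x) * (x + 2 * b)) ≠ 0 :=
    mul_ne_zero (by linarith) (mul_ne_zero (sub_ne_zero.2 (Ne.symm hxb)) fun h => hne (by linarith))
  have hx2 : 2 * |x| ≤ q := by
    by_contra h
    have h' : q < 2 * |x| := by linarith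
    have : q ^ 2 < (2 * |x|) ^ 2 := pow_lt_pow_left₀ h' (by linarith) two_ne_zero
    rw [mul_pow, sq_abs] at this
    nlinarith
  have hNpos : b * q * (q + 2) ≤ 2 * N := by
    have : -|x| ≤ x := neg_abs_le x
    rw [hNd]
    nlinarith
  have hle := Int.le_of_dvd (abs_pos.2 hne0) ((dvd_abs _ _).2 hdvd)
  rw [abs_mul, abs_of_pos (show 0 < b by linarith)] at hle
  have hprod : 4 * |(b - x) * (x + 2 * b)| ≤ 11 * q := by
    have h1 := sq_nonneg (b - x)
    have h2 := sq_nonneg (b + x)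
    rcases abs_cases ((b - x) * (x + 2 * b)) with ⟨he, -⟩ | ⟨he, -⟩ <;> rw [he] <;> nlinarith
  have h11 := mul_le_mul_of_nonneg_left hprod (show (0 : ℤ) ≤ b by linarith)
  have hbq : 0 < b * q := mul_pos (by linarith) (by linarith)
  nlinarith

theorem cube_false {ι : Type*} (J : Finset ι) (r b x : ι → ℤ) {n : ℕ} {q e f u c : ℤ} (hn : 2 ≤ n)
    (hq : q = 2 ^ n) (he : e = q - 1) (hf : e = 2 * f + 1) (hb : ∀ i ∈ J, 0 ≤ b i)
    (hdvd : ∀ i ∈ J, r i + b i * q ^ 3 + x i * q * e ∣ e * (q ^ 3 * (q ^ 3 + 1)))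
    (hz : ∑ i ∈ J, (r i - q * x i) ^ 2 + (1 + f) + (q + 1) * (u - 1) ^ 2 = q ^ 3)
    (htz : ∑ i ∈ J, x i * (r i - q * x i) + (u - 1) = -q ^ 2)
    (hx : ∑ i ∈ J, x i ^ 2 = q)
    (hd : ∑ i ∈ J, (r i + b i * q ^ 3 + x i * q * e) ^ 2 + 1 + f * (q ^ 3 + 1) ^ 2 + q ^ 6 +
      (q + 1) * (u + c * q ^ 3 + q * e + e) ^ 2 = (q ^ 3 + 1) * q ^ 3 * e)
    (htd : ∑ i ∈ J, x i * (r i + b i * q ^ 3 + x i * q * e) + (u + c * q ^ 3 + q * e + e) = 0) : False := by
  have hq4 : 4 ≤ q := by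
    rw [hq]
    calc (4 : ℤ) = 2 ^ 2 := by norm_num
      _ ≤ 2 ^ n := pow_le_pow_right₀ (by norm_num) hn
  have hf1 : 1 ≤ f := by omega
  set R := ∑ i ∈ J, r i ^ 2 with hR
  set B := ∑ i ∈ J, b i ^ 2 with hB
  set X := ∑ i ∈ J, x i * r i with hX
  set P := ∑ i ∈ J, r i * b i with hP
  set S := ∑ i ∈ J, x i * b i with hS
  have ez : ∑ i ∈ J, (r i - q * x i) ^ 2 = R - 2 * q * X + q ^ 2 * q := by
    calc _ = R - 2 * q * X + q ^ 2 * ∑ i ∈ J, x i ^ 2 := by
          rw [hR, hX, Finset.mul_sum, Finset.mul_sum, ← Finset.sum_sub_distrib, ← Finset.sum_add_distrib]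
          exact Finset.sum_congr rfl fun i _ => by ring
      _ = _ := by rw [hx]
  have etz : ∑ i ∈ J, x i * (r i - q * x i) = X - q * q := by
    calc _ = X - q * ∑ i ∈ J, x i ^ 2 := by
          rw [hX, Finset.mul_sum, ← Finset.sum_sub_distrib]
          exact Finset.sum_congr rfl fun i _ => by ring
      _ = _ := by rw [hx]
  have ed : ∑ i ∈ J, (r i + b i * q ^ 3 + x i * q * e) ^ 2 =
      R + q ^ 6 * B + q ^ 2 * e ^ 2 * q + 2 * q ^ 3 * P + 2 * q * e * X + 2 * q ^ 4 * e * S := by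
    calc _ = R + q ^ 6 * B + q ^ 2 * e ^ 2 * ∑ i ∈ J, x i ^ 2 + 2 * q ^ 3 * P + 2 * q * e * X +
          2 * q ^ 4 * e * S := by
          rw [hR, hB, hP, hX, hS, Finset.mul_sum, Finset.mul_sum, Finset.mul_sum, Finset.mul_sum, Finset.mul_sum,
            ← Finset.sum_add_distrib, ← Finset.sum_add_distrib, ← Finset.sum_add_distrib, ← Finset.sum_add_distrib,
            ← Finset.sum_add_distrib]
          exact Finset.sum_congr rfl fun i _ => by ring
      _ = _ := by rw [hx]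
  have etd : ∑ i ∈ J, x i * (r i + b i * q ^ 3 + x i * q * e) = X + q ^ 3 * S + q * e * q := by
    calc _ = X + q ^ 3 * S + q * e * ∑ i ∈ J, x i ^ 2 := by
          rw [hX, hS, Finset.mul_sum, Finset.mul_sum, ← Finset.sum_add_distrib, ← Finset.sum_add_distrib]
          exact Finset.sum_congr rfl fun i _ => by ring
      _ = _ := by rw [hx]
  rw [ez] at hz
  rw [etz] at htz
  have hX1 : X = 1 - u := by linear_combination htz
  have hR0 : 0 ≤ R := Finset.sum_nonneg fun i _ => sq_nonneg _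
  have hB0 : 0 ≤ B := Finset.sum_nonneg fun i _ => sq_nonneg _
  have hu : u = 0 := by
    have h1 : (q + 1) * X ^ 2 < 2 * q * X := by rw [hX1] at hz ⊢; nlinarith
    have h2 : 0 < X := by nlinarith
    have h3 : X < 2 := by
      by_contra h
      have : 0 ≤ (q + 1) * X * (X - 2) := mul_nonneg (mul_nonneg (by linarith) h2.le) (by linarith)
      nlinarith
    omega
  subst hu
  have hX' : X = 1 := by rw [hX1]; ring
  have hRf : R = f := by rw [hX'] at hz; linear_combination hz + hf - he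
  rw [ed] at hd
  rw [etd] at htd
  rw [hX', hRf] at hd
  rw [hX'] at htd
  have hS1 : S = -1 - c := by
    have : q ^ 3 * (S + 1 + c) = 0 := by subst he; linear_combination htd
    rcases mul_eq_zero.1 this with h | h
    · exact absurd h (pow_ne_zero _ (by linarith))
    · linarith
  rw [hS1] at hd
  have hkey : q ^ 3 * (f + 1 + B + (q + 1) * c ^ 2 + 2 * c - e) + 2 * (f + P - c) = 0 := by
    have hq3 : (q : ℤ) ^ 3 ≠ 0 := pow_ne_zero _ (by linarith)
    refine mul_left_cancel₀ hq3 ?_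
    rw [mul_zero]
    obtain rfl : q = 2 * f + 2 := by linarith
    subst he
    linear_combination hd
  set C := f + 1 + B + (q + 1) * c ^ 2 + 2 * c with hC
  have hc0 : 0 ≤ (q + 1) * c ^ 2 + 2 * c ∧ |c| ≤ (q + 1) * c ^ 2 + 2 * c ∧ (c ≠ 0 → q - 1 ≤ (q + 1) * c ^ 2 + 2 * c) := by
    have hcc : |c| ≤ c ^ 2 := by rw [← sq_abs]; exact Int.le_self_sq _
    have hc' : -c ≤ c ^ 2 := (neg_le_abs c).trans hcc
    have hsq := sq_nonneg c
    have hmul : (q - 2) * c ^ 2 ≥ 0 := mul_nonneg (by linarith) hsq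
    refine ⟨by nlinarith, by nlinarith, fun h => ?_⟩
    have h1 : 1 ≤ c ^ 2 := by
      have : 0 < c ^ 2 := by positivity
      omega
    nlinarith
  have hPb : 2 * |P| ≤ R + B := by
    rcases abs_cases P with ⟨h, -⟩ | ⟨h, -⟩ <;> rw [h, hP, hR, hB, ← Finset.sum_add_distrib]
    · rw [Finset.mul_sum]
      exact Finset.sum_le_sum fun i _ => by nlinarith [sq_nonneg (r i - b i)]
    · rw [← Finset.sum_neg_distrib, Finset.mul_sum]
      exact Finset.sum_le_sum fun i _ => by nlinarith [sq_nonneg (r i + b i)]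
  have hCe : C = e := by
    by_contra hne
    have h1 : 1 ≤ |C - e| := Int.one_le_abs (sub_ne_zero.2 hne)
    have h2 : q ^ 3 * |C - e| = |2 * (f + P - c)| := by
      have : q ^ 3 * (C - e) = -(2 * (f + P - c)) := by linarith
      rw [← abs_of_pos (show (0 : ℤ) < q ^ 3 by positivity), ← abs_mul, this, abs_neg]
    have h3 : |2 * (f + P - c)| ≤ 2 * f + 2 * |P| + 2 * |c| := by
      rw [abs_le]
      constructor <;> linarith [neg_abs_le P, le_abs_self P, neg_abs_le c, le_abs_self c]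
    have h4 : C ≤ e + |C - e| := by linarith [le_abs_self (C - e)]
    have h5 : q ^ 3 * |C - e| ≤ 3 * f + 3 * e + 3 * |C - e| := by linarith [hc0.1, hc0.2.1]
    have h6 : (q ^ 3 - 3) * 1 ≤ (q ^ 3 - 3) * |C - e| :=
      mul_le_mul_of_nonneg_left h1 (by nlinarith)
    nlinarith
  have hc : c = 0 := by
    by_contra h
    have := hc0.2.2 h
    linarith
  subst hc
  have hBf : B = f := by rw [hC] at hCe; linear_combination hCe + hf
  have hPf : P = -f := by rw [hCe] at hkey; linarith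
  have hsum : ∑ i ∈ J, (r i + b i) ^ 2 = 0 := by
    rw [show ∑ i ∈ J, (r i + b i) ^ 2 = R + B + 2 * P by
      rw [hR, hB, hP, Finset.mul_sum, ← Finset.sum_add_distrib, ← Finset.sum_add_distrib]
      exact Finset.sum_congr rfl fun i _ => by ring]
    linarith
  have hrb : ∀ i ∈ J, r i = -b i := fun i hi => by
    have := (Finset.sum_eq_zero_iff_of_nonneg (fun j _ => sq_nonneg _)).1 hsum i hi
    rw [pow_eq_zero_iff two_ne_zero] at this
    linarith
  have hS2 : S = -2 * B := by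
    rw [hS, hB, Finset.mul_sum]
    refine Finset.sum_congr rfl fun i hi => ?_
    rcases (hb i hi).eq_or_lt' with h0 | h0
    · rw [h0]; ring
    have h := hdvd i hi
    rw [hrb i hi, show -b i + b i * q ^ 3 + x i * q * e = e * (b i * (q ^ 2 + q + 1) + x i * q) by
      rw [he]; ring] at h
    have hb2 : b i ^ 2 ≤ B := hB ▸ Finset.single_le_sum (fun j _ => sq_nonneg (b j)) hi
    have hx2 : x i ^ 2 ≤ q := hx ▸ Finset.single_le_sum (fun j _ => sq_nonneg (x j)) hi
    rw [eq_neg_two_mul hq hn h0 (by linarith) hx2 ((mul_dvd_mul_iff_left (by linarith)).1 h)]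
    ring
  omega

end CfsgLib.Char.SuzZ
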