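import Cfsg.Agent.Lib.Char.SuzukiZassenhaus.CubeImages
import Cfsg.Agent.Lib.Char.SuzukiZassenhaus.CubeNumeric
import Cfsg.Agent.Lib.Char.Perm

/-!
# The kernel does not have the cube of the number of its central elements
-/

set_option autoImplicit false
set_option linter.unusedSectionVars false
set_option linter.style.haveILetI false

namespace CfsgLib.Char.SuzZ

open scoped ComplexConjugate Classical
open Cfsg MulAction CfsgLib.Char CfsgLib.Char.ZassenhausOdd CfsgLib.Char.FeitZ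

universe u v

variable {G : Type u} {Ω : Type v} [Group G] [Fintype G] [MulAction G Ω] [Fintype Ω]
variable {a b : Ω} {H : Subgroup G} {n : ℕ}

namespace TwoKernel

section

variable [Fintype (NN H)] [Fintype (IrrCharacter G)] [Fintype (IrrCharacter (NN H))]

/-- A virtual character at the identity and at a central element of the kernel, through its multiplicities. -/
theorem restrict_expand (S : TwoKernel G a b H n) {q : ℕ} (D : CubeChars H q) {F : G → ℂ}
    (hF : IsGeneralizedCharacter G F) {z : NN H} (hz : z ∈ ZZ H) (hz1 : z ≠ 1) :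
    ∃ (m : IrrCharacter (NN H) → ℤ) (A : ℤ),
      (∀ χ : IrrCharacter (NN H), classInner F (indFun (Subgroup.normalizer (H : Set G)) (χ : NN H → ℂ)) = m χ) ∧
      F 1 = (A : ℂ) + ((KK H).index : ℂ) * (∑ χ ∈ D.E, (m χ : ℂ)) + ((KK H).index : ℂ) * q * m D.ω ∧
      F z = (A : ℂ) + ((KK H).index : ℂ) * (∑ χ ∈ D.E, (m χ : ℂ)) - (q : ℂ) * m D.ω := by
  classical
  have hFc := isClassFunction_of_isGeneralized hF
  set f : NN H → ℂ := fun x => F (x : G) with hf
  have hfc : IsClassFunction (NN H) f := fun g k => by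
    simp only [hf, Subgroup.coe_mul, Subgroup.coe_inv]
    exact hFc g k
  have hint : ∀ χ : IrrCharacter (NN H), ∃ m : ℤ,
      classInner F (indFun (Subgroup.normalizer (H : Set G)) (χ : NN H → ℂ)) = m := fun χ =>
    classInner_generalized_int hF
      (isGeneralizedCharacter_of_isCharacter (isCharacter_indFun _ (isCharacter_irr χ)))
  choose m hm using hint
  have hd : ∀ χ : IrrCharacter (NN H), ∃ d : ℕ, 0 < d ∧ (χ : NN H → ℂ) 1 = d := fun χ => isIrrCharacter_degree χ.2
  choose d _ hd using hd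
  refine ⟨m, ∑ χ ∈ (excFin H)ᶜ, m χ * (d χ : ℤ), hm, ?_⟩
  have hexp : ∀ x : NN H, x ∈ KK H → f x = ((∑ χ ∈ (excFin H)ᶜ, m χ * (d χ : ℤ) : ℤ) : ℂ) +
      ((∑ χ ∈ D.E, (m χ : ℂ) * (χ : NN H → ℂ) x) + (m D.ω : ℂ) * (D.ω : NN H → ℂ) x) := by
    intro x hx
    have h := congrFun (classFun_expand hfc) x
    simp only [Finset.sum_apply, Pi.smul_apply, smul_eq_mul] at h
    rw [h, Finset.sum_congr rfl (g := fun χ : IrrCharacter (NN H) => (m χ : ℂ) * (χ : NN H → ℂ) x) fun χ _ => by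
      rw [← hm χ, classInner_indFun_right _ _ F hFc],
      ← Finset.sum_add_sum_compl (excFin H), add_comm, Int.cast_sum]
    congr 1
    · refine Finset.sum_congr rfl fun χ hχ => ?_
      rw [nonexc_val (Finset.mem_compl.1 hχ) hx, hd]
      push_cast; rfl
    · rw [D.exc_eq, Finset.sum_insert D.notMem]
      exact add_comm _ _
  constructor
  · have h := hexp 1 (KK H).one_mem
    simp only [hf, Subgroup.coe_one] at h
    rw [h, D.deg_ω, Finset.sum_congr rfl (g := fun χ : IrrCharacter (NN H) => (m χ : ℂ) * ((KK H).index : ℂ))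
      fun χ hχ => by rw [D.deg_E χ hχ], ← Finset.sum_mul]
    ring
  · have h := hexp z (ZZ_le hz)
    simp only [hf] at h
    rw [h, D.val_ω z hz hz1, Finset.sum_congr rfl (g := fun χ : IrrCharacter (NN H) => (m χ : ℂ) * ((KK H).index : ℂ))
      fun χ hχ => by rw [D.val_E χ hχ z hz], ← Finset.sum_mul]
    ring

theorem false_of_images [IsSimpleGroup G] (S : TwoKernel G a b H n) (hc : Nat.card H = (2 ^ n) ^ 3) {q : ℕ}
    (hq : q = 2 ^ n) (D : CubeChars H q) {χ₁ : IrrCharacter (NN H)} (h₁ : χ₁ ∈ D.E) (M : CubeImages D χ₁) :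
    False := by
  classical
  have P := S.pt
  haveI := P.zas.2.1
  haveI := isPretransitive_of P.zas
  have hC := (exc_data H P.centralizer_le).1
  obtain ⟨f, hf⟩ := P.odd
  set e := (KK H).index with hed
  have he : e + 1 = q := hq ▸ S.index_eq
  have heP : Nat.card (pairStab G a b) = e := P.index_kk.symm
  have hH : Nat.card H = q ^ 3 := hq ▸ hc
  have hΩ : Nat.card Ω = q ^ 3 + 1 := by rw [Nat.card_eq_fintype_card, ← P.card, hH]
  have hG : Nat.card G = (q ^ 3 + 1) * q ^ 3 * e := by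
    rw [card_group P.zas P.ne, ← P.card, Nat.add_sub_cancel, hH, heP]
  have hq4 : 4 ≤ q := by
    rw [hq]
    calc 4 = 2 ^ 2 := rfl
      _ ≤ 2 ^ n := Nat.pow_le_pow_right (by norm_num) S.two
  obtain ⟨z, hz, hz1⟩ : ∃ z ∈ ZZ H, z ≠ 1 := by
    have h1 : ZZ H ≠ ⊥ := fun h => by
      have h2 := S.card_ZZ
      rw [h, Subgroup.card_bot, ← hq] at h2
      omega
    obtain ⟨⟨z, hz⟩, hne⟩ := Subgroup.ne_bot_iff_exists_ne_one.1 h1
    exact ⟨z, hz, fun h => hne (Subtype.ext h)⟩
  have hzH : (z : G) ∈ H := (mem_ZZ.1 hz).1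
  have hzG : (z : G) ≠ 1 := fun h => hz1 (Subtype.ext h)
  set L := Subgroup.normalizer (H : Set G) with hL
  set β := (D.ω : NN H → ℂ) - (q : ℂ) • (χ₁ : NN H → ℂ) with hβ
  set B := indFun L β with hB
  have hBgen : IsGeneralizedCharacter G B := S.isometry.1.2.2.2 _ (S.beta_mem D h₁)
  have hB1 : B 1 = 0 := S.isometry.2 _ (S.beta_mem D h₁)
  have hβ1 : β 1 = 0 := (mem_zspanOn_one_iff.1 (S.beta_mem D h₁)).2
  have hexcne : ∀ χ ∈ excFin H, ∃ k ∈ KK H, (χ : NN H → ℂ) k ≠ (χ : NN H → ℂ) 1 := fun χ hχ =>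
    (Finset.mem_filter.1 hχ).2
  have hvanE : ∀ χ ∈ excFin H, ∀ x : NN H, (x : G) ∉ H → (χ : NN H → ℂ) x = 0 := fun χ hχ x hx =>
    vanish_of_nonconst (KK H) hC χ.2 (hexcne χ hχ) hx
  have hβv : ∀ x : NN H, (x : G) ∉ H → β x = 0 := fun x hx => by
    rw [hβ, Pi.sub_apply, Pi.smul_apply, hvanE _ D.ω_exc x hx, hvanE _ (D.mem_exc h₁) x hx, smul_zero, sub_zero]
  have hti : ∀ g : G, g ∉ L → ∀ k ∈ H, g * k * g⁻¹ ∈ H → k = 1 := fun g hg k hk hy =>
    (point_kernel_ti P.zas a H P.le P.card P.fix).1 g (fun h => hg (P.normalizer_eq.ge h)) k hk hy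
  -- constant characters are orthogonal to the difference
  have hconst : ∀ ψ : IrrCharacter G, ∀ r : ℂ, (∀ k ∈ H, k ≠ 1 → (ψ : G → ℂ) k = r) →
      classInner (ψ : G → ℂ) B = 0 := by
    intro ψ r hr
    rw [hB, classInner_indFun_right _ _ _ (isClassFunction_irr ψ), classInner,
      Finset.sum_congr rfl (g := fun x : NN H => r * conj (β x)) fun x _ => ?_, ← Finset.mul_sum, ← map_sum]
    · haveI : Fintype (KK H) := Fintype.ofFinite _
      have h0 : ∑ x : NN H, β x = 0 := by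
        rw [← Finset.sum_subset (Finset.subset_univ (Finset.univ.filter fun x : NN H => x ∈ KK H))
          fun x _ hx => hβv x (by simpa [Subgroup.mem_subgroupOf] using hx),
          Finset.sum_subtype (p := fun x : NN H => x ∈ KK H) _ (fun x => by simp)]
        simp only [hβ, Pi.sub_apply, Pi.smul_apply, smul_eq_mul, Finset.sum_sub_distrib, ← Finset.mul_sum]
        rw [sum_subgroup_eq_zero_of_nonconst (KK H) hC D.ω.2 (hexcne _ D.ω_exc),
          sum_subgroup_eq_zero_of_nonconst (KK H) hC χ₁.2 (hexcne _ (D.mem_exc h₁))]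
        ring
      rw [h0, map_zero, mul_zero, mul_zero]
    · by_cases hx : (x : G) ∈ H
      · by_cases hx1 : x = 1
        · rw [hx1, hβ1, map_zero, mul_zero, mul_zero]
        · rw [hr x hx fun h => hx1 (Subtype.ext h)]
      · rw [hβv x hx, map_zero, mul_zero, mul_zero]
  -- the common values of the images
  have hTd : ∀ χ ∈ D.E, M.T χ 1 = M.T χ₁ 1 ∧ M.T χ z = M.T χ₁ z := by
    intro χ hχ
    have h := M.sub χ hχ χ₁ h₁
    have hd1 : ((χ : NN H → ℂ) - (χ₁ : NN H → ℂ)) 1 = 0 := by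
      rw [Pi.sub_apply, D.deg_E χ hχ, D.deg_E χ₁ h₁, sub_self]
    refine ⟨sub_eq_zero.1 ?_, sub_eq_zero.1 ?_⟩
    · have h1 := congrFun h 1
      rwa [indFun_one, hd1, mul_zero] at h1
    · have h1 := congrFun h (z : G)
      rw [indFun_eq_self_of_vanish H hti P.centralizer_le _
        (fun g k => by simp only [Pi.sub_apply, isClassFunction_irr χ g k, isClassFunction_irr χ₁ g k])
        (fun x hx => by rw [Pi.sub_apply, hvanE _ (D.mem_exc hχ) x hx, hvanE _ (D.mem_exc h₁) x hx, sub_zero])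
        hd1 z, Pi.sub_apply (f := (χ : NN H → ℂ)), D.val_E χ hχ z hz, D.val_E χ₁ h₁ z hz, sub_self] at h1
      exact h1
  have hinner : ∀ χ ∈ D.E, classInner (M.T χ) B = if χ = χ₁ then 1 - (q : ℂ) else 1 := fun χ hχ => by
    rw [← classInner_conj, M.inner χ hχ]
    split_ifs <;> simp
  obtain ⟨u, c, hTone, hTz⟩ : ∃ u c : ℤ, M.T χ₁ 1 = ((u + c * (q : ℤ) ^ 3 + (q : ℤ) * e + e : ℤ) : ℂ) ∧
      M.T χ₁ z = ((u - 1 : ℤ) : ℂ) := by
    obtain ⟨m, A, hm, h1, h2⟩ := S.restrict_expand D (M.gen χ₁ h₁) hz hz1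
    set c := m χ₁ - 1 with hcd
    have hmE : ∀ χ ∈ D.E, (m χ : ℂ) = (c : ℂ) + if χ = χ₁ then 1 else 0 := by
      intro χ hχ
      have h : classInner (M.T χ₁) (M.T χ - M.T χ₁) = (m χ : ℂ) - (m χ₁ : ℂ) := by
        rw [M.sub χ hχ χ₁ h₁, indFun_sub, classInner_sub_right, hm, hm]
      rw [classInner_sub_right, M.orth χ₁ h₁ χ hχ, M.orth χ₁ h₁ χ₁ h₁, if_pos rfl] at h
      rw [hcd, Int.cast_sub, Int.cast_one]
      by_cases hx : χ = χ₁
      · rw [if_pos hx, hx]; ring
      · rw [if_neg (Ne.symm hx)] at h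
        rw [if_neg hx]
        linear_combination -h
    have hmω : (m D.ω : ℂ) = (q : ℂ) * c + 1 := by
      have h := hinner χ₁ h₁
      rw [if_pos rfl, hB, hβ, indFun_sub, indFun_smul, classInner_sub_right, classInner_smul_right, hm, hm,
        map_natCast] at h
      rw [hcd, Int.cast_sub, Int.cast_one]
      linear_combination h
    rw [Finset.sum_congr rfl hmE, Finset.sum_add_distrib, Finset.sum_ite_eq' D.E χ₁, if_pos h₁, Finset.sum_const,
      D.card_E, nsmul_eq_mul, hmω] at h1 h2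
    have he' : (e : ℂ) + 1 = (q : ℂ) := by exact_mod_cast he
    refine ⟨A - c, c, ?_, ?_⟩
    · rw [h1]
      push_cast
      linear_combination ((c : ℂ) * ((q : ℂ) ^ 2 + (q : ℂ) + 1)) * he'
    · rw [h2]
      push_cast
      linear_combination ((c : ℂ) * ((q : ℂ) + 1) + 1) * he'
  -- the other characters
  set Xs := D.E.image M.X with hXs
  have hrest : ∀ ψ : IrrCharacter G, ∃ r k x : ℤ, ψ ∉ Xs → 0 ≤ k ∧ classInner (ψ : G → ℂ) B = x ∧
      (ψ : G → ℂ) 1 = ((r + k * (q : ℤ) ^ 3 + x * (q : ℤ) * e : ℤ) : ℂ) ∧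
      (ψ : G → ℂ) z = ((r - (q : ℤ) * x : ℤ) : ℂ) := by
    intro ψ
    by_cases hψ : ψ ∈ Xs
    · exact ⟨0, 0, 0, fun h => absurd hψ h⟩
    have hgen := isGeneralizedCharacter_of_isCharacter (isCharacter_irr ψ)
    obtain ⟨m, A, hm, h1, h2⟩ := S.restrict_expand D hgen hz hz1
    obtain ⟨x, hx⟩ := classInner_generalized_int hgen hBgen
    have horth : ∀ χ ∈ D.E, classInner (ψ : G → ℂ) (M.T χ) = 0 := fun χ hχ => by
      have hne : ψ ≠ M.X χ := fun h => hψ (h ▸ Finset.mem_image_of_mem _ hχ)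
      rcases M.sign χ hχ with h | h <;> rw [h]
      · exact classInner_irr_ne hne
      · rw [classInner_neg_right, classInner_irr_ne hne, neg_zero]
    have hmE : ∀ χ ∈ D.E, (m χ : ℂ) = m χ₁ := fun χ hχ => by
      have h : classInner (ψ : G → ℂ) (M.T χ - M.T χ₁) = (m χ : ℂ) - (m χ₁ : ℂ) := by
        rw [M.sub χ hχ χ₁ h₁, indFun_sub, classInner_sub_right, hm, hm]
      rw [classInner_sub_right, horth χ hχ, horth χ₁ h₁] at h
      linear_combination -h
    have hmω : (m D.ω : ℂ) = (x : ℂ) + (q : ℂ) * m χ₁ := by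
      have h := hx
      rw [hB, hβ, indFun_sub, indFun_smul, classInner_sub_right, classInner_smul_right, hm, hm, map_natCast] at h
      linear_combination h
    rw [Finset.sum_congr rfl hmE, Finset.sum_const, D.card_E, nsmul_eq_mul, hmω] at h1 h2
    have he' : (e : ℂ) + 1 = (q : ℂ) := by exact_mod_cast he
    refine ⟨A - m χ₁, m χ₁, x, fun _ => ⟨?_, hx, ?_, ?_⟩⟩
    · obtain ⟨k, hk⟩ := classInner_isCharacter (isCharacter_irr ψ) (isCharacter_indFun L (isCharacter_irr χ₁))
      have hk' : (m χ₁ : ℂ) = (k : ℂ) := (hm χ₁).symm.trans hk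
      have : m χ₁ = (k : ℤ) := by exact_mod_cast hk'
      omega
    · rw [h1]
      push_cast
      linear_combination ((m χ₁ : ℂ) * ((q : ℂ) ^ 2 + (q : ℂ) + 1)) * he'
    · rw [h2]
      push_cast
      linear_combination ((m χ₁ : ℂ) * ((q : ℂ) + 1)) * he'
  choose r k x hrest using hrest
  -- the special characters
  set one : IrrCharacter G := ⟨_, isIrrCharacter_one⟩ with hone
  set St : IrrCharacter G := ⟨_, (isIrr_permChar_sub_one_iff (G := G) Ω (by rw [hΩ]; exact Nat.succ_le_succ (Nat.one_le_pow _ _ (by omega)))).2 P.zas.2.1⟩ with hSt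
  obtain ⟨I, hIc, hI⟩ := P.exists_induced hf
  have hSt1 : (St : G → ℂ) 1 = ((q : ℂ)) ^ 3 := by
    show (Nat.card (fixedBy Ω (1 : G)) : ℂ) - 1 = _
    rw [fixedBy_one_eq_univ, Nat.card_congr (Equiv.Set.univ Ω), hΩ]
    push_cast; ring
  have hStH : ∀ y ∈ H, y ≠ 1 → (St : G → ℂ) y = 0 := by
    intro y hy hy1
    show (Nat.card (fixedBy Ω y) : ℂ) - 1 = 0
    have : fixedBy Ω y = {a} := by
      ext w
      exact ⟨fun hw => P.fix y hy hy1 w hw, fun hw => by rw [Set.mem_singleton_iff.1 hw]; exact P.le hy⟩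
    rw [this, Nat.card_unique]
    simp
  have hI1 : ∀ ψ ∈ I, (ψ : G → ℂ) 1 = (q : ℂ) ^ 3 + 1 := fun ψ hψ => by
    rw [(hI ψ hψ).1, hH]; push_cast; ring
  have hoS : one ≠ St := fun h => by
    have h' : (1 : ℂ) = (q : ℂ) ^ 3 := (congrArg (fun φ : IrrCharacter G => (φ : G → ℂ) 1) h).trans hSt1
    have : 1 = q ^ 3 := by exact_mod_cast h'
    have : 1 < q ^ 3 := Nat.one_lt_pow (by norm_num) (by omega)
    omega
  have hoI : one ∉ I := fun h => by
    have h' : (1 : ℂ) = (q : ℂ) ^ 3 + 1 := hI1 one h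
    have : q ^ 3 = 0 := by
      have : 1 = q ^ 3 + 1 := by exact_mod_cast h'
      omega
    have := pow_pos (show 0 < q by omega) 3
    omega
  have hSI : St ∉ I := fun h => by
    have h' := hI1 St h
    rw [hSt1] at h'
    norm_num at h'
  set Sp := insert one (insert St I) with hSp
  have hSp0 : ∀ ψ ∈ Sp, classInner (ψ : G → ℂ) B = 0 := by
    intro ψ hψ
    rcases Finset.mem_insert.1 hψ with rfl | hψ
    · exact hconst _ 1 fun _ _ _ => rfl
    rcases Finset.mem_insert.1 hψ with rfl | hψ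
    · exact hconst _ 0 hStH
    · exact hconst _ 1 (hI ψ hψ).2
  have hdisj : Disjoint Xs Sp := by
    refine Finset.disjoint_left.2 fun ψ hψ hψ' => ?_
    obtain ⟨χ, hχ, rfl⟩ := Finset.mem_image.1 hψ
    have h := hinner χ hχ
    rcases M.sign χ hχ with h' | h' <;>
      rw [h'] at h <;> simp only [classInner_neg_left, hSp0 _ hψ', neg_zero] at h <;> split_ifs at h
    all_goals first
      | exact zero_ne_one h
      | exact absurd (sub_eq_zero.1 h.symm) (by exact_mod_cast (show (1 : ℕ) ≠ q by omega))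
  set J := (Xs ∪ Sp)ᶜ with hJ
  have hJn : ∀ ψ ∈ J, ψ ∉ Xs := fun ψ hψ h => Finset.mem_compl.1 hψ (Finset.mem_union_left _ h)
  have hsplit : ∀ F : (G → ℂ) → ℂ, (∀ φ, F (-φ) = F φ) → ∑ ψ : IrrCharacter G, F ψ =
      (∑ χ ∈ D.E, F (M.T χ)) + (F one + (F St + ∑ ψ ∈ I, F ψ)) + ∑ ψ ∈ J, F ψ := by
    intro F hF
    rw [← Finset.sum_add_sum_compl (Xs ∪ Sp), Finset.sum_union hdisj, hXs,
      Finset.sum_image (fun χ hχ ξ hξ h => M.inj χ hχ ξ hξ h), hSp,
      Finset.sum_insert (by simp only [Finset.mem_insert, not_or]; exact ⟨hoS, hoI⟩), Finset.sum_insert hSI]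
    refine congrArg₂ (· + ·) (congrArg₂ (· + ·) (Finset.sum_congr rfl fun χ hχ => ?_) rfl) rfl
    rcases M.sign χ hχ with h | h <;> rw [h]
    rw [hF]
  have hcardC : Nat.card (Subgroup.centralizer ({(z : G)} : Set G)) = q ^ 3 := by
    rw [← hH, le_antisymm (P.centralizer_le _ hzH hzG) fun y hy => Subgroup.mem_centralizer_singleton_iff.2
      (congrArg Subtype.val (Subgroup.mem_center_iff.1 (mem_ZZ.1 hz).2 ⟨y, hy⟩))]
  have hBc := isClassFunction_of_isGeneralized hBgen
  have hBexp := classFun_expand hBc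
  have hBinner : ∀ ψ : IrrCharacter G, classInner B (ψ : G → ℂ) = conj (classInner (ψ : G → ℂ) B) :=
    fun ψ => (classInner_conj _ _).symm
  have hBz : B z = -(q : ℂ) ^ 2 := by
    rw [hB, indFun_eq_self_of_vanish H hti P.centralizer_le β (fun g l => by
      simp only [hβ, Pi.sub_apply, Pi.smul_apply, isClassFunction_irr D.ω g l, isClassFunction_irr χ₁ g l])
      hβv hβ1 z, hβ, Pi.sub_apply, Pi.smul_apply, smul_eq_mul, D.val_ω z hz hz1, D.val_E χ₁ h₁ z hz]
    have he' : (e : ℂ) + 1 = (q : ℂ) := by exact_mod_cast he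
    linear_combination (-(q : ℂ)) * he'
  -- sums over the images
  have hTsum : ∑ χ ∈ D.E, classInner (M.T χ) B = 1 ∧
      ∑ χ ∈ D.E, classInner (M.T χ) B * conj (classInner (M.T χ) B) = (q : ℂ) ^ 2 - q + 1 := by
    constructor <;>
    · rw [← Finset.add_sum_erase _ _ h₁, hinner χ₁ h₁, if_pos rfl,
        Finset.sum_congr rfl (g := fun _ => (1 : ℂ)) fun χ hχ => by
          simp [hinner χ (Finset.mem_of_mem_erase hχ), Finset.ne_of_mem_erase hχ],
        Finset.sum_const, Finset.card_erase_of_mem h₁, D.card_E, Nat.add_sub_cancel, nsmul_eq_mul]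
      try simp only [map_sub, map_one, map_natCast]
      ring
  set d : IrrCharacter G → ℤ := fun ψ => r ψ + k ψ * (q : ℤ) ^ 3 + x ψ * (q : ℤ) * e with hd
  have he' : (e : ℤ) = (q : ℤ) - 1 := by omega
  refine cube_false J r k x (q := (q : ℤ)) (e := (e : ℤ)) (f := (f : ℤ)) (u := u) (c := c) S.two
    (by rw [hq]; push_cast; rfl) he' (by omega) (fun ψ hψ => (hrest ψ (hJn ψ hψ)).1) (fun ψ hψ => ?_) ?_ ?_ ?_ ?_ ?_
  · obtain ⟨dψ, -, hdψ⟩ := isIrrCharacter_degree ψ.2
    have h := degree_dvd_card ψ hdψ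
    have h' : (dψ : ℤ) = d ψ := by
      have := hdψ.symm.trans (hrest ψ (hJn ψ hψ)).2.2.1
      exact_mod_cast this
    rw [hG, ← Int.natCast_dvd_natCast, h'] at h
    push_cast at h
    refine h.trans (dvd_of_eq ?_)
    ring
  · have h := sum_irr_mul_conj (z : G) (z : G)
    rw [if_pos (IsConj.refl _), hcardC, hsplit (fun φ => φ z * conj (φ z)) (fun φ => by simp),
      Finset.sum_congr rfl (s₁ := D.E) (g := fun _ => (((u - 1) ^ 2 : ℤ) : ℂ)) fun χ hχ => by
        rw [(hTd χ hχ).2, hTz, map_intCast]; push_cast; ring,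
      Finset.sum_congr rfl (s₁ := I) (g := fun _ => (1 : ℂ)) fun ψ hψ => by
        rw [(hI ψ hψ).2 _ hzH hzG, map_one, one_mul],
      Finset.sum_congr rfl (s₁ := J) (g := fun ψ => (((r ψ - (q : ℤ) * x ψ) ^ 2 : ℤ) : ℂ)) fun ψ hψ => by
        rw [(hrest ψ (hJn ψ hψ)).2.2.2, map_intCast]; push_cast; ring,
      hStH _ hzH hzG, Finset.sum_const, Finset.sum_const, D.card_E, hIc] at h
    simp only [hone, map_one, map_zero, nsmul_eq_mul] at h
    apply Int.cast_injective (α := ℂ)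
    push_cast at h ⊢
    linear_combination h
  · have h := congrFun hBexp (z : G)
    simp only [Finset.sum_apply, Pi.smul_apply, smul_eq_mul, hBinner] at h
    rw [hBz, hsplit (fun φ => conj (classInner φ B) * φ z) (fun φ => by simp [classInner_neg_left]),
      Finset.sum_congr rfl (s₁ := D.E) (g := fun χ => conj (classInner (M.T χ) B) * ((u - 1 : ℤ) : ℂ)) fun χ hχ => by
        rw [(hTd χ hχ).2, hTz],
      ← Finset.sum_mul, ← map_sum, hTsum.1, hSp0 one (Finset.mem_insert_self _ _),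
      hSp0 St (Finset.mem_insert_of_mem (Finset.mem_insert_self _ _)),
      Finset.sum_eq_zero (s := I) (fun ψ hψ => by
        rw [hSp0 ψ (Finset.mem_insert_of_mem (Finset.mem_insert_of_mem hψ)), map_zero, zero_mul]),
      Finset.sum_congr rfl (s₁ := J) (g := fun ψ => ((x ψ * (r ψ - (q : ℤ) * x ψ) : ℤ) : ℂ)) fun ψ hψ => by
        rw [(hrest ψ (hJn ψ hψ)).2.1, (hrest ψ (hJn ψ hψ)).2.2.2, map_intCast]; push_cast; ring] at h
    simp only [map_one, map_zero, zero_mul, add_zero, one_mul] at h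
    apply Int.cast_injective (α := ℂ)
    push_cast at h ⊢
    linear_combination -h
  · have h : classInner B B = ∑ ψ : IrrCharacter G, classInner (ψ : G → ℂ) B * conj (classInner (ψ : G → ℂ) B) := by
      conv_lhs => arg 1; rw [hBexp]
      rw [classInner_sum_left]
      exact Finset.sum_congr rfl fun ψ _ => by rw [classInner_smul_left, hBinner, mul_comm]
    rw [hB, hβ, S.beta_norm D h₁, ← hβ, ← hB,
      hsplit (fun φ => classInner φ B * conj (classInner φ B)) (fun φ => by simp [classInner_neg_left]),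
      hTsum.2, hSp0 one (Finset.mem_insert_self _ _),
      hSp0 St (Finset.mem_insert_of_mem (Finset.mem_insert_self _ _)),
      Finset.sum_eq_zero (s := I) (fun ψ hψ => by
        rw [hSp0 ψ (Finset.mem_insert_of_mem (Finset.mem_insert_of_mem hψ)), zero_mul]),
      Finset.sum_congr rfl (s₁ := J) (g := fun ψ => ((x ψ ^ 2 : ℤ) : ℂ)) fun ψ hψ => by
        rw [(hrest ψ (hJn ψ hψ)).2.1, map_intCast]; push_cast; ring] at h
    simp only [map_zero, zero_mul, add_zero] at h
    apply Int.cast_injective (α := ℂ)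
    push_cast at h ⊢
    linear_combination -h
  · have h := sum_degree_sq (G := G)
    rw [hsplit (fun φ => φ 1 ^ 2) (fun φ => by simp),
      Finset.sum_congr rfl (s₁ := D.E) (g := fun _ => (((u + c * (q : ℤ) ^ 3 + (q : ℤ) * e + e) ^ 2 : ℤ) : ℂ))
        fun χ hχ => by rw [(hTd χ hχ).1, hTone]; push_cast; ring,
      Finset.sum_congr rfl (s₁ := I) (g := fun _ => ((q : ℂ) ^ 3 + 1) ^ 2) fun ψ hψ => by rw [hI1 ψ hψ],
      Finset.sum_congr rfl (s₁ := J) (g := fun ψ => ((d ψ ^ 2 : ℤ) : ℂ)) fun ψ hψ => by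
        rw [(hrest ψ (hJn ψ hψ)).2.2.1, hd, Int.cast_pow],
      hSt1, Finset.sum_const, Finset.sum_const, D.card_E, hIc, hG] at h
    simp only [hone, one_pow, nsmul_eq_mul, hd] at h
    apply Int.cast_injective (α := ℂ)
    push_cast at h ⊢
    linear_combination h
  · have h := congrFun hBexp 1
    simp only [Finset.sum_apply, Pi.smul_apply, smul_eq_mul, hBinner] at h
    rw [hB1, hsplit (fun φ => conj (classInner φ B) * φ 1) (fun φ => by simp [classInner_neg_left]),
      Finset.sum_congr rfl (s₁ := D.E)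
        (g := fun χ => conj (classInner (M.T χ) B) * ((u + c * (q : ℤ) ^ 3 + (q : ℤ) * e + e : ℤ) : ℂ))
        fun χ hχ => by rw [(hTd χ hχ).1, hTone],
      ← Finset.sum_mul, ← map_sum, hTsum.1, hSp0 one (Finset.mem_insert_self _ _),
      hSp0 St (Finset.mem_insert_of_mem (Finset.mem_insert_self _ _)),
      Finset.sum_eq_zero (s := I) (fun ψ hψ => by
        rw [hSp0 ψ (Finset.mem_insert_of_mem (Finset.mem_insert_of_mem hψ)), map_zero, zero_mul]),
      Finset.sum_congr rfl (s₁ := J) (g := fun ψ => ((x ψ * d ψ : ℤ) : ℂ)) fun ψ hψ => by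
        rw [(hrest ψ (hJn ψ hψ)).2.1, (hrest ψ (hJn ψ hψ)).2.2.1, map_intCast, hd, Int.cast_mul]] at h
    simp only [map_one, map_zero, zero_mul, add_zero, one_mul, hd] at h
    apply Int.cast_injective (α := ℂ)
    push_cast at h ⊢
    linear_combination -h

end

/-- The kernel has the square of the number of its central elements as its order. -/
theorem not_cube [IsSimpleGroup G] (S : TwoKernel G a b H n) (hc : Nat.card H = (2 ^ n) ^ 3) : False := by
  classical
  haveI : Fintype (NN H) := Fintype.ofFinite _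
  haveI : Fintype (IrrCharacter G) := Fintype.ofFinite _
  haveI : Fintype (IrrCharacter (NN H)) := Fintype.ofFinite _
  have hq4 : 4 ≤ 2 ^ n := by
    calc 4 = 2 ^ 2 := rfl
      _ ≤ 2 ^ n := Nat.pow_le_pow_right (by norm_num) S.two
  have key : Nonempty (Coh H) := by
    rcases S.cube_chars hc with h | ⟨⟨D⟩⟩
    · exact h
    obtain ⟨χ₁, h₁⟩ : D.E.Nonempty := Finset.card_pos.1 (by rw [D.card_E]; omega)
    rcases S.cube_images hc (by omega) D h₁ with h | ⟨⟨M⟩⟩
    · exact h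
    · exact (S.false_of_images hc rfl D h₁ M).elim
  obtain ⟨C⟩ := key
  obtain ⟨f, hf⟩ := S.pt.odd
  have hcube : (2 ^ n) ^ 2 ≤ (2 ^ n) ^ 3 := Nat.pow_le_pow_right (by omega) (by norm_num)
  have h2q : 2 * 2 ^ n < (2 ^ n) ^ 2 := by rw [pow_two]; exact Nat.mul_lt_mul_of_pos_right (by omega) (by omega)
  refine S.pt.false_of_even C hf (by have := S.card_pair; omega) (fun hab => ?_) ?_
  · have htop : Subgroup.center H = ⊤ := Subgroup.eq_top_iff' _ |>.2 fun x =>
      Subgroup.mem_center_iff.2 fun y => Subtype.ext (hab y y.2 x x.2)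
    have h := S.card_center
    rw [htop, Subgroup.card_top, hc] at h
    have : 2 ^ n < (2 ^ n) ^ 2 := by omega
    omega
  · rw [hc, Nat.even_pow]
    exact ⟨Nat.even_pow.2 ⟨even_two, by have := S.two; omega⟩, by norm_num⟩

end TwoKernel

end CfsgLib.Char.SuzZ
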