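import Cfsg.Agent.Lib.Char.SuzukiZassenhaus.CubeSetup

/-!
# The images of the exceptional characters for a kernel of cubic order
-/

set_option autoImplicit false
set_option linter.unusedSectionVars false
set_option linter.style.haveILetI false

namespace CfsgLib.Char.SuzZ

open scoped ComplexConjugate Classical
open Cfsg MulAction CfsgLib.Char CfsgLib.Char.ZassenhausOdd CfsgLib.Char.FeitZ

universe u v

variable {G : Type u} {Ω : Type v} [Group G] [Fintype G] [MulAction G Ω] [Fintype Ω]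
variable {a b : Ω} {H : Subgroup G} {n : ℕ}
variable [Fintype (NN H)] [Fintype (IrrCharacter G)] [Fintype (IrrCharacter (NN H))]

/-- The images of the characters trivial on the centre and the image of the difference with the big one. -/
structure CubeImages {q : ℕ} (D : CubeChars H q) (χ₁ : IrrCharacter (NN H)) where
  X : IrrCharacter (NN H) → IrrCharacter G
  T : IrrCharacter (NN H) → G → ℂ
  sign : ∀ χ ∈ D.E, T χ = X χ ∨ T χ = -(X χ : G → ℂ)
  inj : ∀ χ ∈ D.E, ∀ ξ ∈ D.E, X χ = X ξ → χ = ξ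
  orth : ∀ χ ∈ D.E, ∀ ξ ∈ D.E, classInner (T χ) (T ξ) = if χ = ξ then 1 else 0
  gen : ∀ χ ∈ D.E, IsGeneralizedCharacter G (T χ)
  sub : ∀ χ ∈ D.E, ∀ ξ ∈ D.E, T χ - T ξ = indFun (Subgroup.normalizer (H : Set G))
    ((χ : NN H → ℂ) - (ξ : NN H → ℂ))
  inner : ∀ χ ∈ D.E, classInner (indFun (Subgroup.normalizer (H : Set G))
    ((D.ω : NN H → ℂ) - (q : ℂ) • (χ₁ : NN H → ℂ))) (T χ) = if χ = χ₁ then 1 - (q : ℂ) else 1

namespace CubeChars

variable {q : ℕ}

theorem ω_exc (D : CubeChars H q) : D.ω ∈ excFin H := D.exc_eq ▸ Finset.mem_insert_self _ _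

theorem mem_exc (D : CubeChars H q) {χ : IrrCharacter (NN H)} (h : χ ∈ D.E) : χ ∈ excFin H :=
  D.exc_eq ▸ Finset.mem_insert_of_mem h

end CubeChars

namespace TwoKernel

theorem beta_mem (S : TwoKernel G a b H n) {q : ℕ} (D : CubeChars H q) {χ₁ : IrrCharacter (NN H)} (h₁ : χ₁ ∈ D.E) :
    (D.ω : NN H → ℂ) - (q : ℂ) • (χ₁ : NN H → ℂ) ∈ zspanOn (inducedIrrAbove (KK H) ⊥) {1}ᶜ := by
  have hC := (exc_data H S.pt.centralizer_le).1
  have hm : ∀ χ ∈ excFin H, (χ : NN H → ℂ) ∈ inducedIrrAbove (KK H) ⊥ := fun χ hχ => by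
    rw [inducedIrrAbove_bot_eq (KK H) hC]
    exact mem_excFin.1 hχ
  refine mem_zspanOn_one_iff.2 ⟨zspan_sub (zspan_subset_mem (hm _ D.ω_exc)) ?_, ?_⟩
  · rw [show (q : ℂ) • (χ₁ : NN H → ℂ) = (q : ℤ) • (χ₁ : NN H → ℂ) by
      rw [← Int.cast_smul_eq_zsmul ℂ, Int.cast_natCast]]
    exact Submodule.smul_mem _ (q : ℤ) (zspan_subset_mem (hm _ (D.mem_exc h₁)))
  · rw [Pi.sub_apply, Pi.smul_apply, smul_eq_mul, D.deg_ω, D.deg_E χ₁ h₁]
    ring

theorem beta_norm (S : TwoKernel G a b H n) {q : ℕ} (D : CubeChars H q) {χ₁ : IrrCharacter (NN H)} (h₁ : χ₁ ∈ D.E) :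
    classInner (indFun (Subgroup.normalizer (H : Set G)) ((D.ω : NN H → ℂ) - (q : ℂ) • (χ₁ : NN H → ℂ)))
      (indFun (Subgroup.normalizer (H : Set G)) ((D.ω : NN H → ℂ) - (q : ℂ) • (χ₁ : NN H → ℂ))) =
      1 + (q : ℂ) ^ 2 := by
  rw [S.isometry.1.2.2.1 _ (S.beta_mem D h₁) _ (S.beta_mem D h₁)]
  have hne : D.ω ≠ χ₁ := fun h => D.notMem (h ▸ h₁)
  simp only [classInner_sub_left, classInner_sub_right, classInner_smul_left, classInner_smul_right,
    classInner_irr_self, classInner_irr_ne hne, classInner_irr_ne hne.symm, map_natCast]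
  ring

/-- Either coherence, or the images are rigid. -/
theorem cube_images (S : TwoKernel G a b H n) (hc : Nat.card H = (2 ^ n) ^ 3) {q : ℕ} (hq1 : 1 ≤ q) (D : CubeChars H q)
    {χ₁ : IrrCharacter (NN H)} (h₁ : χ₁ ∈ D.E) : Nonempty (Coh H) ∨ Nonempty (CubeImages D χ₁) := by
  classical
  have hC := (exc_data H S.pt.centralizer_le).1
  obtain ⟨hiso, hiso1⟩ := S.isometry
  obtain ⟨-, τ, hτ, hext⟩ := S.coherent_ZZ hc
  set β := (D.ω : NN H → ℂ) - (q : ℂ) • (χ₁ : NN H → ℂ) with hβ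
  set B := indFun (Subgroup.normalizer (H : Set G)) β with hB
  have hm : ∀ χ ∈ D.E, (χ : NN H → ℂ) ∈ zspan (inducedIrrAbove (KK H) (ZZ H)) := fun χ hχ =>
    zspan_subset_mem ((D.mem_iff χ).1 hχ)
  have hsubA : ∀ χ ∈ D.E, ∀ ξ ∈ D.E,
      (χ : NN H → ℂ) - (ξ : NN H → ℂ) ∈ zspanOn (inducedIrrAbove (KK H) (ZZ H)) {1}ᶜ := fun χ hχ ξ hξ =>
    mem_zspanOn_one_iff.2 ⟨zspan_sub (hm χ hχ) (hm ξ hξ), by
      rw [Pi.sub_apply, D.deg_E χ hχ, D.deg_E ξ hξ, sub_self]⟩
  have hsub : ∀ χ ∈ D.E, ∀ ξ ∈ D.E, τ χ - τ ξ =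
      indFun (Subgroup.normalizer (H : Set G)) ((χ : NN H → ℂ) - (ξ : NN H → ℂ)) := fun χ hχ ξ hξ => by
    refine Eq.trans ?_ (hext _ (hsubA χ hχ ξ hξ))
    rw [sub_eq_add_neg (χ : NN H → ℂ), hτ.1 _ (hm χ hχ) _ (Submodule.neg_mem _ (hm ξ hξ)),
      ← neg_one_zsmul (ξ : NN H → ℂ), hτ.2.1 _ (hm ξ hξ), neg_one_zsmul, ← sub_eq_add_neg]
  have hgen : ∀ χ ∈ D.E, IsGeneralizedCharacter G (τ χ) := fun χ hχ => hτ.2.2.2 _ (hm χ hχ)
  have horth : ∀ χ ∈ D.E, ∀ ξ ∈ D.E, classInner (τ χ) (τ ξ) = if χ = ξ then 1 else 0 := fun χ hχ ξ hξ => by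
    rw [hτ.2.2.1 _ (hm χ hχ) _ (hm ξ hξ)]
    exact classInner_irr χ ξ
  have hBgen : IsGeneralizedCharacter G B := hiso.2.2.2 _ (S.beta_mem D h₁)
  have hci : ∀ χ, ∃ c : ℤ, χ ∈ D.E → classInner B (τ χ) = c := fun χ => by
    by_cases h : χ ∈ D.E
    · exact (classInner_generalized_int hBgen (hgen χ h)).imp fun _ h _ => h
    · exact ⟨0, fun h' => absurd h' h⟩
  choose c hcv using hci
  set x := c χ₁ + (q : ℤ) with hx
  have hcx : ∀ χ ∈ D.E, c χ = x - if χ = χ₁ then (q : ℤ) else 0 := by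
    intro χ hχ
    have h : classInner B (τ χ - τ χ₁) = classInner β ((χ : NN H → ℂ) - (χ₁ : NN H → ℂ)) := by
      rw [hsub χ hχ χ₁ h₁]
      exact hiso.2.2.1 _ (S.beta_mem D h₁) _
        (zspanOn_mono (inducedIrrAbove_mono (KK H) bot_le) (hsubA χ hχ χ₁ h₁))
    rw [classInner_sub_right, hcv χ hχ, hcv χ₁ h₁, hβ] at h
    simp only [classInner_sub_left, classInner_sub_right, classInner_smul_left, classInner_irr,
      if_neg (show ¬ D.ω = χ by rintro rfl; exact D.notMem hχ),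
      if_neg (show ¬ D.ω = χ₁ by rintro rfl; exact D.notMem h₁), if_true] at h
    have h' : (c χ : ℂ) - (c χ₁ : ℂ) = (q : ℂ) - (if χ = χ₁ then (q : ℂ) else 0) := by
      rw [h]
      by_cases he : χ = χ₁
      · subst he; simp
      · rw [if_neg he, if_neg (Ne.symm he)]; ring
    by_cases he : χ = χ₁
    · subst he; simp [hx]
    · rw [if_neg he] at h' ⊢
      apply Int.cast_injective (α := ℂ)
      rw [hx]; push_cast
      linear_combination h'
  have hsum2 : ∑ χ ∈ D.E, c χ ^ 2 = ((q : ℤ) + 1) * x ^ 2 - 2 * x * q + (q : ℤ) ^ 2 := by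
    rw [← Finset.add_sum_erase _ _ h₁, hcx χ₁ h₁, if_pos rfl,
      Finset.sum_congr rfl (g := fun _ => x ^ 2) fun χ hχ => by
        rw [hcx χ (Finset.mem_of_mem_erase hχ), if_neg (Finset.ne_of_mem_erase hχ), sub_zero],
      Finset.sum_const, Finset.card_erase_of_mem h₁, D.card_E, Nat.add_sub_cancel, nsmul_eq_mul]
    ring
  set r := B - ∑ χ ∈ D.E, (c χ : ℂ) • τ χ with hr
  have hrorth : ∀ χ ∈ D.E, classInner r (τ χ) = 0 := fun χ hχ => by
    rw [hr, classInner_sub_left, classInner_sum_left, Finset.sum_eq_single χ, classInner_smul_left,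
      horth χ hχ χ hχ, if_pos rfl, hcv χ hχ, mul_one, sub_self]
    · intro ξ hξ hne
      rw [classInner_smul_left, horth ξ hξ χ hχ, if_neg hne, mul_zero]
    · exact fun h => absurd hχ h
  have hrnorm : classInner r r = ((1 + (q : ℤ) ^ 2 - ∑ χ ∈ D.E, c χ ^ 2 : ℤ) : ℂ) := by
    have h0 : classInner r (∑ χ ∈ D.E, (c χ : ℂ) • τ χ) = 0 := by
      rw [classInner_sum_right]
      exact Finset.sum_eq_zero fun χ hχ => by rw [classInner_smul_right, hrorth χ hχ, mul_zero]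
    have h1 : classInner r r = classInner r B := by
      conv_lhs => arg 2; rw [hr]
      rw [classInner_sub_right, h0, sub_zero]
    rw [h1, hr, classInner_sub_left, S.beta_norm D h₁, classInner_sum_left,
      Finset.sum_congr rfl (g := fun χ => ((c χ ^ 2 : ℤ) : ℂ)) fun χ hχ => by
        rw [classInner_smul_left, ← classInner_conj, hcv χ hχ, map_intCast]
        push_cast; ring]
    push_cast
    ring
  have hx01 : x = 0 ∨ x = 1 := by
    have h := classInner_self_re_nonneg r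
    rw [hrnorm, Complex.intCast_re, Int.cast_nonneg_iff, hsum2] at h
    have hq0 : (1 : ℤ) ≤ q := by exact_mod_cast hq1
    rcases lt_trichotomy x 0 with hneg | h0 | hpos
    · exfalso
      nlinarith
    · exact Or.inl h0
    · right
      by_contra hne
      have : 0 ≤ (x - 2) * ((q : ℤ) + 1) := mul_nonneg (by omega) (by linarith)
      nlinarith
  rcases hx01 with h0 | h0
  · left
    refine S.nonempty_coh ?_
    have hrg : IsGeneralizedCharacter G r := by
      rw [hr, sub_eq_add_neg, ← Finset.sum_neg_distrib]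
      refine isGeneralizedCharacter_add hBgen ?_
      simp only [← neg_smul, ← Int.cast_neg]
      exact isGeneralizedCharacter_sum _ _ fun χ hχ => isGeneralizedCharacter_zsmul (hgen χ hχ) _
    have hr1 : classInner r r = 1 := by rw [hrnorm, hsum2, h0]; push_cast; ring
    have hrB : B = r - (q : ℂ) • τ χ₁ := by
      rw [hr, ← Finset.add_sum_erase _ _ h₁, hcx χ₁ h₁, if_pos rfl, h0,
        Finset.sum_eq_zero fun χ hχ => by
          rw [hcx χ (Finset.mem_of_mem_erase hχ), if_neg (Finset.ne_of_mem_erase hχ), h0]; simp]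
      funext g
      simp
    set s := (excFin H).image fun χ : IrrCharacter (NN H) => (χ : NN H → ℂ) with hs
    have hms : (s : Set (NN H → ℂ)) = inducedIrrAbove (KK H) ⊥ := by
      rw [inducedIrrAbove_bot_eq (KK H) hC]
      ext φ
      simp only [hs, Finset.coe_image, Set.mem_image, Finset.mem_coe, mem_excFin]
      exact ⟨fun ⟨χ, hχ, e⟩ => e ▸ hχ, fun hφ => ⟨⟨φ, hφ.1⟩, hφ, rfl⟩⟩
    let z : (NN H → ℂ) → G → ℂ := fun φ => if φ = (D.ω : NN H → ℂ) then r else τ φ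
    have hzE : ∀ χ ∈ D.E, z χ = τ χ := fun χ hχ => by
      simp only [z]
      rw [if_neg fun h => D.notMem ((show χ = D.ω from Subtype.ext h) ▸ hχ)]
    have hzω : z (D.ω : NN H → ℂ) = r := if_pos rfl
    rw [← hms]
    refine isCoherent_of_images s {1}ᶜ _ ?_ (fun φ hφ ψ hψ hne => ?_) (fun φ hφ => ?_) z (fun φ hφ => ?_)
      (fun φ hφ ψ hψ => ?_) fun d hd => ?_
    · refine ⟨β, hms ▸ S.beta_mem D h₁, fun h => ?_⟩
      have h' := congrArg (fun φ => classInner φ (D.ω : NN H → ℂ)) h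
      simp only [hβ, classInner_sub_left, classInner_smul_left, classInner_irr_self,
        classInner_irr_ne (show χ₁ ≠ D.ω from fun e => D.notMem (e ▸ h₁)), classInner_zero_left] at h'
      norm_num at h'
    · obtain ⟨χ, -, rfl⟩ := Finset.mem_image.1 hφ
      obtain ⟨ξ, -, rfl⟩ := Finset.mem_image.1 hψ
      exact classInner_irr_ne fun e => hne (congrArg Subtype.val e)
    · obtain ⟨χ, -, rfl⟩ := Finset.mem_image.1 hφ
      rw [classInner_irr_self]
      exact one_ne_zero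
    · obtain ⟨χ, hχ, rfl⟩ := Finset.mem_image.1 hφ
      rw [D.exc_eq, Finset.mem_insert] at hχ
      rcases hχ with rfl | hχ
      · rwa [hzω]
      · rw [hzE χ hχ]; exact hgen χ hχ
    · obtain ⟨χ, hχ, rfl⟩ := Finset.mem_image.1 hφ
      obtain ⟨ξ, hξ, rfl⟩ := Finset.mem_image.1 hψ
      rw [D.exc_eq, Finset.mem_insert] at hχ hξ
      rw [classInner_irr χ ξ]
      rcases hχ with rfl | hχ <;> rcases hξ with rfl | hξ
      · rw [hzω, hr1, if_pos rfl]
      · rw [hzω, hzE ξ hξ, hrorth ξ hξ, if_neg fun e : D.ω = ξ => D.notMem (e ▸ hξ)]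
      · rw [hzω, hzE χ hχ, ← classInner_conj, hrorth χ hχ, map_zero, if_neg fun e : χ = D.ω => D.notMem (e ▸ hχ)]
      · rw [hzE χ hχ, hzE ξ hξ, horth χ hχ ξ hξ]
    · have hsp : ∀ F : (NN H → ℂ) → G → ℂ, ∑ φ ∈ s, (d φ : ℂ) • F φ =
          (d D.ω : ℂ) • F D.ω + ∑ χ ∈ D.E, (d χ : ℂ) • F χ := fun F => by
        rw [hs, Finset.sum_image (fun χ _ ξ _ h => Subtype.ext h), D.exc_eq, Finset.sum_insert D.notMem]
      set α := (∑ χ ∈ D.E, (d χ : ℂ) • (χ : NN H → ℂ)) + ((d D.ω : ℂ) * (q : ℂ)) • (χ₁ : NN H → ℂ) with hα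
      have hsplit : ∑ φ ∈ s, (d φ : ℂ) • φ = (d D.ω : ℂ) • β + α := by
        rw [hs, Finset.sum_image (fun χ _ ξ _ h => Subtype.ext h), D.exc_eq, Finset.sum_insert D.notMem, hα, hβ,
          smul_sub, smul_smul]
        abel
      have hαspan : α ∈ zspan (inducedIrrAbove (KK H) (ZZ H)) := by
        rw [hα]
        refine Submodule.add_mem _ (Submodule.sum_mem _ fun χ hχ => ?_) ?_
        · rw [Int.cast_smul_eq_zsmul]
          exact Submodule.smul_mem _ _ (hm χ hχ)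
        · rw [show (d D.ω : ℂ) * (q : ℂ) = ((d D.ω * q : ℤ) : ℂ) by push_cast; ring, Int.cast_smul_eq_zsmul]
          exact Submodule.smul_mem _ _ (hm χ₁ h₁)
      have hαA : α ∈ zspanOn (inducedIrrAbove (KK H) (ZZ H)) {1}ᶜ := by
        refine mem_zspanOn_one_iff.2 ⟨hαspan, ?_⟩
        have h1 := (mem_zspanOn_one_iff.1 hd).2
        have hβ1 : β 1 = 0 := (mem_zspanOn_one_iff.1 (S.beta_mem D h₁)).2
        rw [hsplit, Pi.add_apply, Pi.smul_apply, hβ1, smul_zero,
          zero_add] at h1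
        exact h1
      have hτα : τ α = (∑ χ ∈ D.E, (d χ : ℂ) • τ χ) + ((d D.ω : ℂ) * (q : ℂ)) • τ χ₁ := by
        have hlin : ∀ (t : Finset (IrrCharacter (NN H))), t ⊆ D.E → ∀ k : IrrCharacter (NN H) → ℤ,
            τ (∑ χ ∈ t, (k χ : ℂ) • (χ : NN H → ℂ)) = ∑ χ ∈ t, (k χ : ℂ) • τ χ := by
          intro t ht k
          induction t using Finset.induction with
          | empty =>
            rw [Finset.sum_empty, Finset.sum_empty]
            have h := hτ.2.1 _ (hm χ₁ h₁) 0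
            simpa using h
          | @insert χ t hχ ih =>
            rw [Finset.sum_insert hχ, Finset.sum_insert hχ, hτ.1, ih ((Finset.subset_insert _ _).trans ht),
              Int.cast_smul_eq_zsmul, hτ.2.1 _ (hm χ (ht (Finset.mem_insert_self _ _))), Int.cast_smul_eq_zsmul]
            · rw [Int.cast_smul_eq_zsmul]
              exact Submodule.smul_mem _ _ (hm χ (ht (Finset.mem_insert_self _ _)))
            · refine Submodule.sum_mem _ fun ξ hξ => ?_
              rw [Int.cast_smul_eq_zsmul]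
              exact Submodule.smul_mem _ _ (hm ξ (ht (Finset.mem_insert_of_mem hξ)))
        rw [hα, hτ.1 _ (Submodule.sum_mem _ fun χ hχ => by
            rw [Int.cast_smul_eq_zsmul]; exact Submodule.smul_mem _ _ (hm χ hχ)) _ (by
            rw [show (d D.ω : ℂ) * (q : ℂ) = ((d D.ω * q : ℤ) : ℂ) by push_cast; ring, Int.cast_smul_eq_zsmul]
            exact Submodule.smul_mem _ _ (hm χ₁ h₁)),
          hlin D.E subset_rfl (fun χ => d χ),
          show (d D.ω : ℂ) * (q : ℂ) = ((d D.ω * q : ℤ) : ℂ) by push_cast; ring, Int.cast_smul_eq_zsmul,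
          hτ.2.1 _ (hm χ₁ h₁), Int.cast_smul_eq_zsmul]
      show indFun (Subgroup.normalizer (H : Set G)) (∑ φ ∈ s, (d φ : ℂ) • φ) = _
      rw [hsplit, indFun_add, indFun_smul, ← hB, hsp z, hzω,
        Finset.sum_congr rfl (g := fun χ : IrrCharacter (NN H) => (d χ : ℂ) • τ χ) fun χ hχ => by rw [hzE χ hχ],
        show indFun (Subgroup.normalizer (H : Set G)) α = τ α from (hext α hαA).symm, hτα, hrB, smul_sub, smul_smul]
      abel
  · right
    have hpm : ∀ χ, ∃ ψ : IrrCharacter G, χ ∈ D.E → τ χ = ψ ∨ τ χ = -(ψ : G → ℂ) := fun χ => by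
      by_cases h : χ ∈ D.E
      · rcases irr_or_neg_of_norm_one (hgen χ h) (by rw [horth χ h χ h, if_pos rfl]) with h' | h'
        · exact ⟨⟨_, h'⟩, fun _ => Or.inl rfl⟩
        · exact ⟨⟨_, h'⟩, fun _ => Or.inr (neg_neg _).symm⟩
      · exact ⟨⟨_, isIrrCharacter_one⟩, fun h' => absurd h' h⟩
    choose X hX using hpm
    refine ⟨⟨X, fun χ => τ χ, hX, fun χ hχ ξ hξ he => ?_, horth, hgen, hsub, fun χ hχ => ?_⟩⟩
    · by_contra hne
      have h := horth χ hχ ξ hξ
      rw [if_neg hne] at h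
      rcases hX χ hχ with h1 | h1 <;> rcases hX ξ hξ with h2 | h2 <;>
        simp [h1, h2, he, classInner_neg_left, classInner_neg_right, classInner_irr_self] at h
    · rw [← hB, hcv χ hχ, hcx χ hχ, h0]
      split_ifs <;> push_cast <;> ring

end TwoKernel

end CfsgLib.Char.SuzZ
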