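import Cfsg.Agent.Lib.Char.SuzukiZassenhaus.Structure
import Cfsg.Agent.Lib.Char.FeitZassenhaus.Final

/-!
# The characters of the point stabilizer for a kernel of cubic order
-/

set_option autoImplicit false
set_option linter.unusedSectionVars false
set_option linter.style.haveILetI false

namespace CfsgLib.Char.SuzZ

open scoped ComplexConjugate Classical
open Cfsg MulAction CfsgLib.Char CfsgLib.Char.ZassenhausOdd CfsgLib.Char.FeitZ

universe u v

variable {G : Type u} {Ω : Type v} [Group G] [Fintype G] [MulAction G Ω] [Fintype Ω]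
variable {a b : Ω} {H : Subgroup G}

/-- The centre of the kernel inside the normalizer of the kernel. -/
abbrev ZZ (H : Subgroup G) : Subgroup (NN H) :=
  ((Subgroup.center H).map H.subtype).subgroupOf (Subgroup.normalizer (H : Set G))

theorem mem_ZZ {x : NN H} : x ∈ ZZ H ↔ ∃ h : (x : G) ∈ H, (⟨x, h⟩ : H) ∈ Subgroup.center H := by
  constructor
  · intro hx
    obtain ⟨y, hy, he⟩ := Subgroup.mem_map.1 (Subgroup.mem_subgroupOf.1 hx)
    exact ⟨he ▸ y.2, by convert hy using 1; exact Subtype.ext he.symm⟩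
  · rintro ⟨h, hc⟩
    exact Subgroup.mem_subgroupOf.2 ⟨⟨x, h⟩, hc, rfl⟩

instance normal_ZZ : (ZZ H).Normal := ⟨fun x hx g => by
  obtain ⟨hxH, hxc⟩ := mem_ZZ.1 hx
  refine mem_ZZ.2 ⟨(Subgroup.mem_normalizer_iff.1 g.2 (x : G)).1 hxH, Subgroup.mem_center_iff.2 fun y => ?_⟩
  have hy : (g : G)⁻¹ * y * g ∈ H := (Subgroup.mem_normalizer_iff''.1 g.2 (y : G)).1 y.2
  have h := congrArg Subtype.val (Subgroup.mem_center_iff.1 hxc ⟨_, hy⟩)
  simp only [Subgroup.coe_mul] at h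
  refine Subtype.ext ?_
  calc (y : G) * ((g : G) * x * (g : G)⁻¹) = g * ((g : G)⁻¹ * y * g * x) * (g : G)⁻¹ := by group
    _ = g * ((x : G) * ((g : G)⁻¹ * y * g)) * (g : G)⁻¹ := by rw [h]
    _ = (g : G) * x * (g : G)⁻¹ * y := by group⟩

/-- What is needed about the characters of the point stabilizer. -/
structure CubeChars (H : Subgroup G) [Fintype (NN H)] [Fintype (IrrCharacter G)] [Fintype (IrrCharacter (NN H))]
    (q : ℕ) where
  E : Finset (IrrCharacter (NN H))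
  ω : IrrCharacter (NN H)
  exc_eq : excFin H = insert ω E
  notMem : ω ∉ E
  mem_iff : ∀ χ : IrrCharacter (NN H), χ ∈ E ↔ (χ : NN H → ℂ) ∈ inducedIrrAbove (KK H) (ZZ H)
  card_E : E.card = q + 1
  deg_E : ∀ χ ∈ E, (χ : NN H → ℂ) 1 = ((KK H).index : ℂ)
  deg_ω : (ω : NN H → ℂ) 1 = ((KK H).index : ℂ) * q
  val_E : ∀ χ ∈ E, ∀ z ∈ ZZ H, (χ : NN H → ℂ) z = ((KK H).index : ℂ)
  val_ω : ∀ z ∈ ZZ H, z ≠ 1 → (ω : NN H → ℂ) z = -(q : ℂ)

namespace TwoKernel

variable {n : ℕ}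

theorem card_ZZ (S : TwoKernel G a b H n) : Nat.card (ZZ H) = 2 ^ n := by
  rw [Nat.card_congr (Subgroup.subgroupOfEquivOfLe ((Subgroup.map_subtype_le _).trans Subgroup.le_normalizer)).toEquiv,
    Subgroup.card_map_of_injective H.subtype_injective, S.card_center]

theorem index_eq (S : TwoKernel G a b H n) : (KK H).index + 1 = 2 ^ n := by
  rw [S.pt.index_kk, S.card_pair]

theorem ZZ_le : ZZ H ≤ KK H := fun _ hx => Subgroup.mem_subgroupOf.2 (mem_ZZ.1 hx).1

theorem comm_mem_ZZ (S : TwoKernel G a b H n) :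
    ∀ x ∈ KK H, ∀ y ∈ KK H, x * y * x⁻¹ * y⁻¹ ∈ ZZ H := by
  intro x hx y hy
  refine mem_ZZ.2 ⟨mul_mem (mul_mem (mul_mem hx hy) (inv_mem hx)) (inv_mem hy), ?_⟩
  have h := S.comm (⟨x, hx⟩ : H)⁻¹ (⟨y, hy⟩ : H)⁻¹
  rw [inv_inv, inv_inv] at h
  exact h

theorem relIndex_ZZ (S : TwoKernel G a b H n) (hc : Nat.card H = (2 ^ n) ^ 3) :
    (ZZ H).relIndex (KK H) = (2 ^ n) ^ 2 := by
  have h := ((ZZ H).subgroupOf (KK H)).card_mul_index
  rw [Nat.card_congr (Subgroup.subgroupOfEquivOfLe ZZ_le).toEquiv, S.card_ZZ, S.pt.card_kk, hc] at h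
  refine Nat.eq_of_mul_eq_mul_left (show 0 < 2 ^ n by positivity) (h.trans ?_)
  ring

theorem isometry (S : TwoKernel G a b H n) [Fintype (NN H)] :
    IsLinearIsometryOn (zspanOn (inducedIrrAbove (KK H) ⊥) {1}ᶜ)
        (fun α => indFun (Subgroup.normalizer (H : Set G)) α) ∧
      ∀ α ∈ zspanOn (inducedIrrAbove (KK H) ⊥) {1}ᶜ, indFun (Subgroup.normalizer (H : Set G)) α 1 = 0 := by
  have hC := (exc_data H S.pt.centralizer_le).1
  refine indFun_isometry_TI H (fun g hg x hx hy =>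
    (point_kernel_ti S.pt.zas a H S.pt.le S.pt.card S.pt.fix).1 g (fun h => hg (S.pt.normalizer_eq.ge h)) x hx hy)
    (fun φ hφ => isCharacter_of_isIrr (isIrr_inducedIrrAbove (KK H) hC hφ)) fun φ hφ x hx => ?_
  obtain ⟨θ, -, -, -, rfl⟩ := hφ
  exact indFun_normal_not_mem _ θ hx

theorem coherent_ZZ (S : TwoKernel G a b H n) (hc : Nat.card H = (2 ^ n) ^ 3) [Fintype (NN H)] :
    IsCoherent (inducedIrrAbove (KK H) (ZZ H)) {1}ᶜ (fun α => indFun (Subgroup.normalizer (H : Set G)) α) := by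
  obtain ⟨h1, h2⟩ := S.isometry
  refine feit_base (KK H) (exc_data H S.pt.centralizer_le).1 _ h1 h2 S.comm_mem_ZZ ?_
  rw [S.relIndex_ZZ hc]
  have := S.index_eq
  have : (2 ^ n) * 2 ≤ (2 ^ n) ^ 2 := by
    rw [pow_two]
    refine Nat.mul_le_mul_left _ ?_
    calc 2 = 2 ^ 1 := rfl
      _ ≤ 2 ^ n := Nat.pow_le_pow_right (by norm_num) (by linarith [S.two])
  omega

/-- A coherent set of all exceptional characters gives a coherent kernel. -/
theorem nonempty_coh (S : TwoKernel G a b H n) [Fintype (NN H)]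
    (hcoh : IsCoherent (inducedIrrAbove (KK H) ⊥) {1}ᶜ (fun α => indFun (Subgroup.normalizer (H : Set G)) α)) :
    Nonempty (Coh H) := by
  have hC := (exc_data H S.pt.centralizer_le).1
  have hset : inducedIrrAbove (KK H) ⊥ = ExcSet H := inducedIrrAbove_bot_eq (KK H) hC
  obtain ⟨⟨α, hα, hα0⟩, τ, hτ, hext⟩ := hset ▸ hcoh
  refine ⟨⟨fun g hg k hk hy => (point_kernel_ti S.pt.zas a H S.pt.le S.pt.card S.pt.fix).1 g
    (fun h => hg (S.pt.normalizer_eq.ge h)) k hk hy, S.pt.centralizer_le, τ, hτ, hext, ?_⟩⟩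
  by_contra hno
  push Not at hno
  apply hα0
  by_cases hne : (ExcSet H).Nonempty
  · obtain ⟨χ, hχ⟩ := hne
    have h1 := Submodule.span_mono (R := ℤ) (show ExcSet H ⊆ {χ} from fun ξ hξ => hno ξ hξ χ hχ) hα.1
    obtain ⟨k, rfl⟩ := Submodule.mem_span_singleton.1 h1
    have h2 := hα.2 1 (by simp)
    obtain ⟨d, hd0, hd⟩ := isIrrCharacter_degree hχ.1
    rw [Pi.smul_apply, hd, zsmul_eq_mul, mul_eq_zero, Int.cast_eq_zero, Nat.cast_eq_zero] at h2
    rw [h2.resolve_right hd0.ne', zero_smul]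
  · rw [Set.not_nonempty_iff_eq_empty] at hne
    have h2 : α ∈ Submodule.span ℤ (∅ : Set (NN H → ℂ)) := hne ▸ hα.1
    rwa [Submodule.span_empty, Submodule.mem_bot] at h2

variable [Fintype (NN H)] [Fintype (IrrCharacter G)] [Fintype (IrrCharacter (NN H))]

/-- Either coherence, or one exceptional character of large degree besides those trivial on the centre. -/
theorem cube_chars (S : TwoKernel G a b H n) (hc : Nat.card H = (2 ^ n) ^ 3) :
    Nonempty (Coh H) ∨ Nonempty (CubeChars H (2 ^ n)) := by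
  classical
  set q := 2 ^ n with hq
  have hrel : (ZZ H).relIndex (KK H) = q ^ 2 := S.relIndex_ZZ hc
  have hC := (exc_data H S.pt.centralizer_le).1
  obtain ⟨hiso, hiso1⟩ := S.isometry
  have he : (KK H).index + 1 = q := S.index_eq
  have hK : Nat.card (KK H) = q ^ 3 := S.pt.card_kk.trans hc
  have hq4 : 4 ≤ q := by
    calc 4 = 2 ^ 2 := rfl
      _ ≤ q := Nat.pow_le_pow_right (by norm_num) S.two
  haveI : Fintype (KK H) := Fintype.ofFinite _
  have hdeg : ∀ θ : IrrCharacter (KK H), ∀ d : ℕ, (θ : KK H → ℂ) 1 = d → d = q ∨ 2 * d ≤ q := by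
    intro θ d hd
    have h := degree_sq_le_of_central_section (B := ⊥) θ (fun x hx => by
      rw [Subgroup.mem_bot] at hx
      rw [show x = 1 from Subtype.ext hx]) (D := ZZ H) (C := KK H) ZZ_le le_rfl (fun x hx y hy => by
        obtain ⟨hxH, hxc⟩ := mem_ZZ.1 hx
        have h := congrArg Subtype.val (Subgroup.mem_center_iff.1 hxc ⟨y, hy⟩)
        refine Subgroup.mem_bot.2 (Subtype.ext ?_)
        show (x : G) * y * (x : G)⁻¹ * (y : G)⁻¹ = 1
        rw [show (x : G) * y = y * x from h.symm]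
        group) hd
    rw [Subgroup.relIndex_self, one_pow, one_mul, hrel] at h
    have hdq : d ≤ q := (pow_le_pow_iff_left₀ (Nat.zero_le _) (Nat.zero_le _) two_ne_zero).1 h
    have hdvd := degree_dvd_card θ hd
    rw [hK, hq, ← pow_mul] at hdvd
    obtain ⟨j, -, hj⟩ := (Nat.dvd_prime_pow Nat.prime_two).1 hdvd
    subst hj
    have hjn : j ≤ n := (Nat.pow_le_pow_iff_right (by norm_num)).1 hdq
    rcases hjn.eq_or_lt with rfl | hlt
    · exact Or.inl rfl
    · right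
      calc 2 * 2 ^ j = 2 ^ (j + 1) := by ring
        _ ≤ q := Nat.pow_le_pow_right (by norm_num) hlt
  haveI : Group.IsNilpotent (KK H) := by
    haveI := S.pt.nilpotent
    exact Group.nilpotent_of_mulEquiv (Subgroup.subgroupOfEquivOfLe Subgroup.le_normalizer).symm
  by_cases hbig : ∀ θ : IrrCharacter (KK H), (θ : KK H → ℂ) 1 ≠ (q : ℂ)
  · left
    refine S.nonempty_coh (feit_step (KK H) hC _ hiso hiso1 (A := ZZ H) (B := ⊥) bot_le inferInstance ?_
      (S.coherent_ZZ hc) fun θ d _ hd => ?_)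
    · rw [hrel]
      exact (Nat.one_lt_pow two_ne_zero (by omega)).ne'
    · rw [hrel]
      have h2 : 2 * d ≤ q := (hdeg θ d hd).resolve_left fun h => hbig θ (hd.trans (by rw [h]))
      have h3 : (KK H).index * (2 * d) ≤ (KK H).index * q := Nat.mul_le_mul_left _ h2
      have h4 : ((KK H).index + 1) * q = q ^ 2 := by rw [he, pow_two]
      rw [add_mul, one_mul] at h4
      have h5 : 2 * (KK H).index * d = (KK H).index * (2 * d) := by ring
      omega
  right
  push Not at hbig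
  obtain ⟨θ, hθ⟩ := hbig
  have hωmem : indFun (KK H) (θ : KK H → ℂ) ∈ inducedIrrAbove (KK H) ⊥ := ⟨θ, θ.2, fun h => by
      rw [h, eq_comm, Nat.cast_eq_one] at hθ
      omega, fun x hx => by
      rw [Subgroup.mem_bot] at hx
      rw [show x = 1 from Subtype.ext hx], rfl⟩
  set ω : IrrCharacter (NN H) := ⟨_, isIrr_inducedIrrAbove (KK H) hC hωmem⟩ with hωd
  have hωdeg : (ω : NN H → ℂ) 1 = ((KK H).index : ℂ) * q := by
    show indFun (KK H) (θ : KK H → ℂ) 1 = _
    rw [indFun_one, hθ]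
  set E := (excFin H).filter fun χ : IrrCharacter (NN H) => (χ : NN H → ℂ) ∈ inducedIrrAbove (KK H) (ZZ H) with hE
  have hmem : ∀ χ : IrrCharacter (NN H), χ ∈ E ↔ (χ : NN H → ℂ) ∈ inducedIrrAbove (KK H) (ZZ H) := fun χ => by
    refine ⟨fun h => (Finset.mem_filter.1 h).2, fun h => Finset.mem_filter.2 ⟨mem_excFin.2 ?_, h⟩⟩
    have h' := inducedIrrAbove_mono (KK H) bot_le h
    rwa [inducedIrrAbove_bot_eq (KK H) hC] at h'
  have he0 : (KK H).index ≠ 0 := Subgroup.index_ne_zero_of_finite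
  have hdE : ∀ χ ∈ E, (χ : NN H → ℂ) 1 = ((KK H).index : ℂ) := by
    intro χ hχ
    obtain ⟨φ, h1, -, h3, hφ⟩ := (hmem χ).1 hχ
    obtain ⟨d, hd0, hd⟩ := isIrrCharacter_degree h1
    have h := degree_sq_le_of_central_section ⟨φ, h1⟩ h3 (D := KK H) (C := KK H) le_rfl le_rfl S.comm_mem_ZZ hd
    rw [Subgroup.relIndex_self, one_pow, one_mul] at h
    rw [hφ, indFun_one, hd, show d = 1 by nlinarith, Nat.cast_one, mul_one]
  have hωE : ω ∉ E := fun h => by
    have h' := hdE ω h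
    rw [hωdeg, mul_right_eq_self₀, Nat.cast_eq_one, Nat.cast_eq_zero] at h'
    omega
  have hωexc : ω ∈ excFin H := mem_excFin.2 (by
    have := hωmem
    rwa [inducedIrrAbove_bot_eq (KK H) hC] at this)
  have hcE : E.card = q + 1 := by
    have h := sum_sq_inducedIrrAbove (KK H) (ZZ H) (E.image fun χ : IrrCharacter (NN H) => (χ : NN H → ℂ)) (by
      ext φ
      simp only [Finset.coe_image, Set.mem_image, Finset.mem_coe]
      exact ⟨fun ⟨χ, hχ, e⟩ => e ▸ (hmem χ).1 hχ, fun hφ =>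
        ⟨⟨φ, isIrr_inducedIrrAbove (KK H) hC (inducedIrrAbove_mono (KK H) bot_le hφ)⟩, (hmem _).2 hφ, rfl⟩⟩)
    rw [Finset.sum_image (fun χ _ ξ _ h => Subtype.ext h),
      Finset.sum_congr rfl (g := fun _ => ((KK H).index : ℂ) ^ 2) fun χ hχ => by
        rw [classInner_irr_self, div_one, hdE χ hχ],
      Finset.sum_const, nsmul_eq_mul, hrel] at h
    have he' : ((KK H).index : ℂ) + 1 = (q : ℂ) := by exact_mod_cast he
    have hi : ((KK H).index : ℂ) ≠ 0 := Nat.cast_ne_zero.2 he0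
    push_cast at h
    have : (E.card : ℂ) = (q : ℂ) + 1 := by
      refine mul_right_cancel₀ (pow_ne_zero 2 hi) ?_
      linear_combination h - (((KK H).index : ℂ) * ((q : ℂ) + 1)) * he'
    exact_mod_cast this
  have hexc : excFin H = insert ω E := by
    refine (Finset.eq_of_subset_of_card_le (Finset.insert_subset hωexc (Finset.filter_subset _ _)) ?_).symm
    by_contra hlt
    push Not at hlt
    obtain ⟨ξ, hξ, hξn⟩ := Finset.exists_mem_notMem_of_card_lt_card hlt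
    have hd : ∀ χ : IrrCharacter (NN H), ∃ d : ℕ, 0 < d ∧ (χ : NN H → ℂ) 1 = d := fun χ => isIrrCharacter_degree χ.2
    choose d hd0 hd using hd
    have htot : ∑ χ ∈ excFin H, (χ : NN H → ℂ) 1 ^ 2 = ∑ χ ∈ insert ω E, (χ : NN H → ℂ) 1 ^ 2 := by
      rw [sum_sq_exceptional (KK H) hC |> fun h => (show ∑ χ ∈ excFin H, (χ : NN H → ℂ) 1 ^ 2 = _ from h),
        Finset.sum_insert hωE, hωdeg, Finset.sum_congr rfl (g := fun _ => ((KK H).index : ℂ) ^ 2) fun χ hχ => by
          rw [hdE χ hχ], Finset.sum_const, nsmul_eq_mul, hcE, hK]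
      have he' : ((KK H).index : ℂ) + 1 = (q : ℂ) := by exact_mod_cast he
      push_cast
      linear_combination -(((KK H).index : ℂ) * ((q : ℂ) ^ 2 + (q : ℂ) + 1)) * he'
    simp only [hd, ← Nat.cast_pow, ← Nat.cast_sum, Nat.cast_inj] at htot
    refine (Finset.sum_lt_sum_of_subset (Finset.insert_subset hωexc (Finset.filter_subset _ _)) hξ hξn
      (f := fun χ => d χ ^ 2) ?_ fun _ _ _ => Nat.zero_le _).ne htot.symm
    exact pow_pos (hd0 ξ) 2
  have hvE : ∀ χ ∈ E, ∀ z ∈ ZZ H, (χ : NN H → ℂ) z = ((KK H).index : ℂ) := by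
    intro χ hχ z hz
    rw [← hdE χ hχ]
    by_contra hne
    have h := diff_inducedIrrAbove_eq (KK H) (Z := ZZ H) ZZ_le fun φ hφ => isIrr_inducedIrrAbove (KK H) hC hφ.1
    exact ((Set.ext_iff.1 h χ).2 ⟨χ.2, z, hz, hne⟩).2 ((hmem χ).1 hχ)
  refine ⟨⟨E, ω, hexc, hωE, hmem, hcE, hdE, hωdeg, hvE, fun z hz hz1 => ?_⟩⟩
  have hzK : z ∈ KK H := ZZ_le hz
  have h := sum_exceptional_degree_mul (KK H) hzK hz1
  rw [show (Finset.univ.filter fun χ : IrrCharacter (NN H) => ∃ k ∈ KK H, (χ : NN H → ℂ) k ≠ (χ : NN H → ℂ) 1) =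
      insert ω E from hexc, Finset.sum_insert hωE, hωdeg,
    Finset.sum_congr rfl (g := fun _ => ((KK H).index : ℂ) ^ 2) fun χ hχ => by rw [hdE χ hχ, hvE χ hχ z hz, pow_two],
    Finset.sum_const, nsmul_eq_mul, hcE] at h
  have hrest := sum_degree_sq (G := NN H)
  rw [← Finset.sum_filter_add_sum_filter_not Finset.univ
    (fun χ : IrrCharacter (NN H) => ∃ k ∈ KK H, (χ : NN H → ℂ) k ≠ (χ : NN H → ℂ) 1),
    sum_sq_exceptional (KK H) hC, ← (KK H).card_mul_index, hK] at hrest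
  have hrest' := eq_sub_of_add_eq' hrest
  rw [hrest'] at h
  have he' : ((KK H).index : ℂ) + 1 = (q : ℂ) := by exact_mod_cast he
  have hi : ((KK H).index : ℂ) * (q : ℂ) ≠ 0 :=
    mul_ne_zero (Nat.cast_ne_zero.2 he0) (Nat.cast_ne_zero.2 (by omega))
  push_cast at h
  refine mul_left_cancel₀ hi ?_
  linear_combination h - (((KK H).index : ℂ) * ((q : ℂ) + 1)) * he'

end TwoKernel

end CfsgLib.Char.SuzZ
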