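import Cfsg.Agent.Lib.Char.FeitZassenhaus.Kernel
import Cfsg.Agent.Lib.Perm.Zassenhaus.SimpleEven
import Cfsg.Agent.S1137
import Cfsg.Agent.S1138

/-!
# The kernel of a simple Zassenhaus group which is a non-abelian 2-group
-/

set_option autoImplicit false
set_option linter.unusedSectionVars false
set_option linter.style.haveILetI false

namespace CfsgLib.Char.SuzZ

open Cfsg MulAction CfsgLib.Char CfsgLib.Char.ZassenhausOdd CfsgLib.Char.FeitZ

variable {G Ω : Type*} [Group G] [Finite G] [MulAction G Ω] [Fintype Ω] {a b : Ω} {H : Subgroup G}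

/-- The shape of the kernel. -/
structure TwoKernel (G : Type*) [Group G] {Ω : Type*} [MulAction G Ω] [Fintype Ω] (a b : Ω) (H : Subgroup G)
    (n : ℕ) : Prop where
  pt : Pt G a b H
  suz : IsSuzukiTwoGroup H
  two : 2 ≤ n
  card_pair : Nat.card (pairStab G a b) + 1 = 2 ^ n
  card_center : Nat.card (Subgroup.center H) = 2 ^ n
  invol : ∀ x : H, (x ≠ 1 ∧ x * x = 1) ↔ (x ∈ Subgroup.center H ∧ x ≠ 1)
  sq : ∀ x : H, x * x ∈ Subgroup.center H
  comm : ∀ x y : H, x⁻¹ * y⁻¹ * x * y ∈ Subgroup.center H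
  card : Nat.card H = (2 ^ n) ^ 2 ∨ Nat.card H = (2 ^ n) ^ 3
  trans : ∀ x y : H, x ≠ 1 → x * x = 1 → y ≠ 1 → y * y = 1 →
    ∃ s ∈ pairStab G a b, s * (x : G) * s⁻¹ = y

/-- Conjugation of the kernel by the two-point stabilizer. -/
def pairConj (P : Pt G a b H) : pairStab G a b →* MulAut H :=
  have hn : ∀ s ∈ pairStab G a b, ∀ u ∈ H, s * u * s⁻¹ ∈ H := fun s hs u hu =>
    (Subgroup.mem_normalizer_iff.1 (P.normalizer_eq.ge (Subgroup.mem_inf.1 hs).1) u).1 hu
  { toFun := fun s =>
      { toFun := fun u => ⟨(s : G) * u * (s : G)⁻¹, hn s s.2 u u.2⟩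
        invFun := fun u => ⟨(s : G)⁻¹ * u * (s : G), by
          have := hn _ (s⁻¹).2 u u.2
          simpa using this⟩
        left_inv := fun u => Subtype.ext (by
          show (s : G)⁻¹ * ((s : G) * u * (s : G)⁻¹) * s = u
          group)
        right_inv := fun u => Subtype.ext (by
          show (s : G) * ((s : G)⁻¹ * u * s) * (s : G)⁻¹ = u
          group)
        map_mul' := fun u v => Subtype.ext (by
          show (s : G) * ((u : G) * v) * (s : G)⁻¹ = (s : G) * u * (s : G)⁻¹ * ((s : G) * v * (s : G)⁻¹)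
          group) }
    map_one' := MulEquiv.ext fun u => Subtype.ext (by
      show ((1 : pairStab G a b) : G) * u * ((1 : pairStab G a b) : G)⁻¹ = u
      simp)
    map_mul' := fun s s' => MulEquiv.ext fun u => Subtype.ext (by
      show ((s * s' : pairStab G a b) : G) * u * ((s * s' : pairStab G a b) : G)⁻¹ =
        (s : G) * ((s' : G) * u * (s' : G)⁻¹) * (s : G)⁻¹
      rw [Subgroup.coe_mul]
      group) }

theorem exists_twoKernel (P : Pt G a b H) [IsSimpleGroup G] (h2 : IsPGroup 2 H)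
    (hna : ∃ x y : H, x * y ≠ y * x) : ∃ n, TwoKernel G a b H n := by
  classical
  haveI : Fact (Nat.Prime 2) := ⟨Nat.prime_two⟩
  obtain ⟨m, hm⟩ := IsPGroup.iff_card.1 h2
  have hm0 : m ≠ 0 := by
    rintro rfl
    obtain ⟨x, y, hxy⟩ := hna
    haveI := (Nat.card_eq_one_iff_unique.1 (hm.trans (pow_zero 2))).1
    exact hxy (Subsingleton.elim _ _)
  have hn : Odd (Fintype.card Ω) := by
    rw [← P.card, hm]
    exact (Nat.even_pow.2 ⟨even_two, hm0⟩).add_one
  set e := Nat.card (pairStab G a b) with he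
  let J := {v : G // orderOf v = 2 ∧ v • a = a}
  have hJ : Nat.card J = e := card_involutions_point P.zas P.ne P.odd hn a
  let I := {x : H // x ≠ 1 ∧ x * x = 1}
  let eJI : J ≃ I :=
    { toFun := fun v => ⟨⟨v.1, involution_mem_kernel P.zas P.ne P.le P.card P.fix P.odd v.2.1 v.2.2⟩,
        fun h => by
          have h' : v.1 = 1 := congrArg Subtype.val h
          have := v.2.1
          rw [h', orderOf_one] at this
          omega,
        Subtype.ext (by
          show v.1 * v.1 = 1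
          exact orderOf_dvd_iff_pow_eq_one.1 (v.2.1.dvd) |> fun h => by rwa [pow_two] at h)⟩
      invFun := fun x => ⟨x.1.1, orderOf_eq_prime (by rw [pow_two]; exact congrArg Subtype.val x.2.2)
        fun h => x.2.1 (Subtype.ext h), P.le x.1.2⟩
      left_inv := fun _ => rfl
      right_inv := fun _ => rfl }
  have hI : Nat.card I = e := by rw [← Nat.card_congr eJI, hJ]
  have hfpf := isFpfOn_kernel P.ne P.zas P.le P.fix
  have hinj : ∀ x : H, x ≠ 1 → Function.Injective fun s : pairStab G a b => pairConj P s x := by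
    intro x hx s s' h
    have h' : (s : G) * x * (s : G)⁻¹ = (s' : G) * x * (s' : G)⁻¹ := congrArg Subtype.val h
    by_contra hne
    refine hx (Subtype.ext (hfpf.eq_one (a := (s' : G)⁻¹ * s) (mul_mem (inv_mem s'.2) s.2)
      (fun h0 => hne (Subtype.ext (inv_mul_eq_one.1 h0).symm)) x.2 ?_))
    calc (s' : G)⁻¹ * s * x * ((s' : G)⁻¹ * s)⁻¹ = (s' : G)⁻¹ * ((s : G) * x * (s : G)⁻¹) * s' := by group
      _ = x := by rw [h']; group
  have hbij : ∀ x : I, Function.Bijective fun s : pairStab G a b =>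
      (⟨pairConj P s x.1, (pairConj P s).injective.ne_iff' (map_one _) |>.2 x.2.1,
        by rw [← map_mul, x.2.2, map_one]⟩ : I) := fun x =>
    (Nat.bijective_iff_injective_and_card _).2
      ⟨fun s s' h => hinj x.1 x.2.1 (congrArg Subtype.val h :), hI.symm⟩
  have htrans : ∀ x y : H, x ≠ 1 → x * x = 1 → y ≠ 1 → y * y = 1 → ∃ s, pairConj P s x = y :=
    fun x y hx hx2 hy hy2 => by
      obtain ⟨s, hs⟩ := (hbij ⟨x, hx, hx2⟩).2 ⟨y, hy, hy2⟩
      exact ⟨s, congrArg Subtype.val hs⟩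
  haveI : IsCyclic (pairStab G a b) := (CfsgLib.Perm.ZSimple.cyclic_inverted P.zas P.ne).1
  have hsz : IsSuzukiTwoGroup H := by
    refine ⟨inferInstance, h2, hna, ?_, (pairConj P).range,
      isCyclic_of_surjective (pairConj P).rangeRestrict (MonoidHom.rangeRestrict_surjective _), ?_⟩
    · have h1 : 1 < Nat.card I := hI ▸ P.one_lt_pair
      haveI := Finite.one_lt_card_iff_nontrivial.1 h1
      obtain ⟨x, y, hxy⟩ := exists_pair_ne I
      exact ⟨x.1, y.1, fun h => hxy (Subtype.ext h), x.2.1, x.2.2, y.2.1, y.2.2⟩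
    · intro x y hx hx2 hy hy2
      obtain ⟨s, hs⟩ := htrans x y hx hx2 hy hy2
      refine ⟨⟨_, s, rfl⟩, hs, ?_⟩
      rintro ⟨_, s', rfl⟩ hs'
      exact Subtype.ext (congrArg (pairConj P) (hinj x hx (hs'.trans hs.symm)))
  obtain ⟨hinv, -⟩ := Cfsg.Agent.S1137.result hsz
  obtain ⟨hsq, hcomm, hcard, -⟩ := Cfsg.Agent.S1138.result hsz
  have hc : Nat.card (Subgroup.center H) = e + 1 := by
    let f : {z : Subgroup.center H // z ≠ 1} ≃ I :=
      { toFun := fun z => ⟨z.1.1, (hinv z.1.1).2 ⟨z.1.2, fun h => z.2 (Subtype.ext h)⟩⟩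
        invFun := fun x => ⟨⟨x.1, ((hinv x.1).1 x.2).1⟩, fun h => x.2.1 (congrArg Subtype.val h)⟩
        left_inv := fun _ => rfl
        right_inv := fun _ => rfl }
    have h := Nat.card_congr f
    haveI := Fintype.ofFinite (Subgroup.center H)
    rw [hI, Nat.card_eq_fintype_card, Fintype.card_subtype_compl, Fintype.card_subtype_eq] at h
    have := Nat.card_pos (α := Subgroup.center H)
    rw [Nat.card_eq_fintype_card] at this ⊢
    omega
  obtain ⟨n, -, hn2⟩ := (Nat.dvd_prime_pow Nat.prime_two).1 (hm ▸ Subgroup.card_subgroup_dvd_card (Subgroup.center H))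
  refine ⟨n, ⟨P, hsz, ?_, by rw [← hn2, hc], hn2, hinv, hsq, hcomm, by rwa [hn2] at hcard, fun x y hx hx2 hy hy2 => ?_⟩⟩
  · have h1 : 2 < 2 ^ n := by
      rw [← hn2, hc]
      have := P.one_lt_pair
      omega
    by_contra h
    have : 2 ^ n ≤ 2 ^ 1 := Nat.pow_le_pow_right (by norm_num) (by omega)
    omega
  · obtain ⟨s, hs⟩ := htrans x y hx hx2 hy hy2
    exact ⟨s, s.2, congrArg Subtype.val hs⟩

end CfsgLib.Char.SuzZ
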